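import Groth.Agent.Pic13.H557.RigMul

/-!
# The group of rigidified invertible modules

* `CommGroup (RCl σ)`, `mul_eq_iff`;
* `pullHom w : RCl σ →* RCl σ'`;
* `toPic σ : RCl σ →* Pic Y`, `toPic_pull`;
* `unitCl σ : Γ(W, ⊤)ˣ →* RCl σ`, `pull_unitCl`;
* exactness of `Γ(Y, ⊤)ˣ → Γ(W, ⊤)ˣ → RCl σ → Pic Y`: `toPic_eq_one_iff`, `unitCl_eq_one_iff`.
-/

set_option autoImplicit false
set_option backward.isDefEq.respectTransparency false

universe u v

open CategoryTheory CategoryTheory.Limits AlgebraicGeometry TopologicalSpace Opposite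

namespace Groth.Agent.Pic13.H557.RigGrp

open Groth.Agent.Fdesc Groth.Agent.Fdesc.LocGen Groth.Agent.Picfga.LineHom
  Groth.Agent.Picfga.LineDescent Groth.Agent.Picfga.LineFam Groth.Agent.Picfga.HilbPull
  Groth.Agent.Pic13.H602.Rig Groth.Agent.Pic13.H557.RigBil Groth.Agent.Pic13.H557.RigMul
  Groth.Agent.Grpsch

variable {W W' Y Y' : Scheme.{u}} {σ : W ⟶ Y} {σ' : W' ⟶ Y'} {G : Y' ⟶ Y} {g : W' ⟶ W}

/-! ### The group structure -/

noncomputable instance : Mul (RCl σ) where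
  mul := Quotient.lift₂ (s₁ := setoid σ) (s₂ := setoid σ) (fun R R' ↦ (exists_mul R R').choose.cls)
    (fun R₁ R₂ R₁' R₂' h₁ h₂ ↦ RB.cls_eq_iff.2
      ((exists_mul R₁ R₂).choose_spec.rel (exists_mul R₁' R₂').choose_spec h₁ h₂))

theorem mul_eq_iff {R₁ R₂ R₃ : RB σ} : R₁.cls * R₂.cls = R₃.cls ↔ IsMul R₁ R₂ R₃ := by
  change (exists_mul R₁ R₂).choose.cls = R₃.cls ↔ _
  rw [RB.cls_eq_iff]
  exact ⟨fun h ↦ (exists_mul R₁ R₂).choose_spec.of_rel h,
    fun h ↦ (exists_mul R₁ R₂).choose_spec.rel h (Rel.refl _) (Rel.refl _)⟩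

noncomputable instance : One (RCl σ) where
  one := (unitRB σ 1).cls

theorem one_def : (1 : RCl σ) = (unitRB σ 1).cls := rfl

theorem exists_mul_eq_one (c : RCl σ) : ∃ c' : RCl σ, c * c' = 1 := by
  obtain ⟨R, rfl⟩ := c.exists_rep
  obtain ⟨R', h⟩ := exists_inv R
  exact ⟨R'.cls, mul_eq_iff.2 h⟩

noncomputable instance : Inv (RCl σ) where
  inv c := (exists_mul_eq_one c).choose

theorem mul_comm' (a b : RCl σ) : a * b = b * a := by
  obtain ⟨R₁, rfl⟩ := a.exists_rep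
  obtain ⟨R₂, rfl⟩ := b.exists_rep
  obtain ⟨R₃, h⟩ := exists_mul R₂ R₁
  rw [mul_eq_iff.2 h]
  exact mul_eq_iff.2 h.symm

theorem one_mul' (a : RCl σ) : 1 * a = a := by
  obtain ⟨R, rfl⟩ := a.exists_rep
  exact mul_eq_iff.2 (isMul_one R)

theorem mul_assoc' (a b c : RCl σ) : a * b * c = a * (b * c) := by
  obtain ⟨R₁, rfl⟩ := a.exists_rep
  obtain ⟨R₂, rfl⟩ := b.exists_rep
  obtain ⟨R₃, rfl⟩ := c.exists_rep
  obtain ⟨R₁₂, h₁₂⟩ := exists_mul R₁ R₂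
  obtain ⟨R₂₃, h₂₃⟩ := exists_mul R₂ R₃
  obtain ⟨R, h⟩ := exists_mul R₁₂ R₃
  obtain ⟨R', h'⟩ := exists_mul R₁ R₂₃
  rw [mul_eq_iff.2 h₁₂, mul_eq_iff.2 h₂₃, mul_eq_iff.2 h, mul_eq_iff.2 h']
  exact RB.cls_eq_iff.2 (h₁₂.assoc h h₂₃ h')

noncomputable instance : CommGroup (RCl σ) where
  mul_assoc := mul_assoc'
  one_mul := one_mul'
  mul_one a := by rw [mul_comm', one_mul']
  inv_mul_cancel a := by
    rw [mul_comm']
    exact (exists_mul_eq_one a).choose_spec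
  mul_comm := mul_comm'

/-! ### Pull back -/

theorem pull_mul (w : σ' ≫ G = g ≫ σ) (a b : RCl σ) : RCl.pull w (a * b) = RCl.pull w a * RCl.pull w b := by
  obtain ⟨R₁, rfl⟩ := a.exists_rep
  obtain ⟨R₂, rfl⟩ := b.exists_rep
  obtain ⟨R₃, h⟩ := exists_mul R₁ R₂
  obtain ⟨R₁', A₁⟩ := exists_pull R₁ w
  obtain ⟨R₂', A₂⟩ := exists_pull R₂ w
  obtain ⟨R₃', h'⟩ := exists_mul R₁' R₂'
  rw [mul_eq_iff.2 h, RCl.pull_eq_iff.2 A₁, RCl.pull_eq_iff.2 A₂, mul_eq_iff.2 h', RCl.pull_eq_iff.2]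
  exact h.arr h' A₁ A₂

/-- Pull back as a homomorphism. -/
noncomputable def pullHom (w : σ' ≫ G = g ≫ σ) : RCl σ →* RCl σ' :=
  MonoidHom.mk' (RCl.pull w) (pull_mul w)

@[simp] theorem pullHom_apply (w : σ' ≫ G = g ≫ σ) (c : RCl σ) : pullHom w c = RCl.pull w c := rfl

/-! ### Classes of units -/

variable (σ) in
/-- The class of a unit on `W`. -/
noncomputable def unitCl : Γ(W, ⊤)ˣ →* RCl σ :=
  MonoidHom.mk' (fun u ↦ (unitRB σ u).cls) (fun u u' ↦ (mul_eq_iff.2 (isMul_unitRB u u')).symm)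

theorem unitCl_apply (u : Γ(W, ⊤)ˣ) : unitCl σ u = (unitRB σ u).cls := rfl

theorem pull_unitCl (w : σ' ≫ G = g ≫ σ) (u : Γ(W, ⊤)ˣ) :
    RCl.pull w (unitCl σ u) = unitCl σ' (Units.map g.appTop.hom.toMonoidHom u) := by
  rw [unitCl_apply, unitCl_apply, RCl.pull_eq_iff]
  refine ⟨⟨Fam.can G, (isArr_iff_v w _).2 fun {U} s ↦ ?_⟩⟩
  have h1 : ∀ (U : Y.Opens) (a : Γ(Y, U)) (h : g ⁻¹ᵁ (σ ⁻¹ᵁ U) ≤ (σ' ≫ G) ⁻¹ᵁ U),
      ores h (σ'.app _ (G.app U a)) = g.app _ (σ.app U a) := by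
    intro U a h
    have h2 := app_congr w.symm a
    exact h2.symm
  change ores _ (ores le_top (g.appTop u.1) * σ'.app _ (G.app U (ofFun.symm s))) =
    g.app _ (ores le_top u.1 * σ.app U (ofFun.symm s))
  rw [map_mul, map_mul]
  refine congrArg₂ (· * ·) ?_ (h1 U _ _)
  rw [app_ores, ores_ores]
  rfl

/-! ### The underlying class -/

theorem nonempty_iso_of_fam {L L' : Y.Modules} (hL : PicF.IsInvertible L) (F : Fam (𝟙 Y) L L') :
    Nonempty (L ≅ L') := by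
  obtain ⟨ψ, -⟩ := F.exists_ofIso hL
  exact ⟨((Scheme.Modules.pullbackId Y).app L).symm ≪≫ ψ⟩

/-- The family attached to an isomorphism. -/
noncomputable def famOfIso {L L' : Y.Modules} (e : L ≅ L') : Fam (𝟙 Y) L L' where
  map s := e.hom.app _ s
  smul _ _ := Scheme.Modules.Hom.app_smul _ _ _
  res h s := app_res e.hom h s
  gen he := he.app e.hom

variable (σ) in
/-- The underlying class. -/
noncomputable def toPic : RCl σ →* PicGrp.Pic Y :=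
  MonoidHom.mk' (Quotient.lift (s := setoid σ) (fun R ↦ PicGrp.mk R.L R.inv) (fun R R' h ↦ by
    obtain ⟨A⟩ := h
    exact (PicGrp.mk_eq_iff _ _).2 (nonempty_iso_of_fam R.inv A.θ))) (fun a b ↦ by
      obtain ⟨R₁, rfl⟩ := a.exists_rep
      obtain ⟨R₂, rfl⟩ := b.exists_rep
      obtain ⟨R₃, h⟩ := exists_mul R₁ R₂
      rw [mul_eq_iff.2 h]
      change PicGrp.mk R₃.L R₃.inv = PicGrp.mk R₁.L R₁.inv * PicGrp.mk R₂.L R₂.inv
      rw [PicGrp.mk_mul_mk]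
      obtain ⟨B, -⟩ := h
      obtain ⟨F, -⟩ := Pr.exists_lift R₁.inv R₂.inv (Pr.ofBil (Bil.tens R₁.L R₂.L)) B.toBil
      obtain ⟨e⟩ := nonempty_iso_of_fam (isInvertible_tensorMod R₁.inv R₂.inv) F
      exact (PicGrp.mk_eq_iff _ _).2 ⟨e.symm⟩)

theorem toPic_cls (R : RB σ) : toPic σ R.cls = PicGrp.mk R.L R.inv := rfl

theorem toPic_pull (w : σ' ≫ G = g ≫ σ) (c : RCl σ) :
    toPic σ' (RCl.pull w c) = PicGrp.pull G (toPic σ c) := by
  obtain ⟨R, rfl⟩ := c.exists_rep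
  obtain ⟨R', A⟩ := exists_pull R w
  rw [RCl.pull_eq_iff.2 A, toPic_cls, toPic_cls, PicGrp.pull_mk]
  obtain ⟨A⟩ := A
  obtain ⟨ψ, -⟩ := A.θ.exists_ofIso R.inv
  exact (PicGrp.mk_eq_iff _ _).2 ⟨ψ.symm⟩

theorem toPic_unitCl (u : Γ(W, ⊤)ˣ) : toPic σ (unitCl σ u) = 1 := rfl

/-- A class with trivial underlying class is the class of a unit. -/
theorem toPic_eq_one_iff {c : RCl σ} : toPic σ c = 1 ↔ ∃ u : Γ(W, ⊤)ˣ, unitCl σ u = c := by
  constructor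
  · intro h
    obtain ⟨R, rfl⟩ := c.exists_rep
    rw [toPic_cls, PicGrp.mk_eq_one_iff] at h
    obtain ⟨e⟩ := h
    let ρ : Fam σ (Coh.structureModule Y) (Coh.structureModule W) :=
      { map := fun s ↦ R.ρ.map (e.inv.app _ s)
        smul := fun a s ↦ by rw [Scheme.Modules.Hom.app_smul, R.ρ.smul]
        res := fun h s ↦ by rw [app_res, R.ρ.res]
        gen := fun he ↦ R.ρ.gen (he.app e.inv) }
    obtain ⟨u, hu, hρ⟩ := Fam.exists_unit isInvertible_structureModule (Fam.can σ) ρ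
    refine ⟨hu.unit, ?_⟩
    rw [unitCl_apply, RB.cls_eq_iff]
    refine ⟨⟨famOfIso e.symm, (isArr_iff_v _ _).2 fun {U} s ↦ ?_⟩⟩
    have h1 := congrArg (fun F : Fam σ (Coh.structureModule Y) (Coh.structureModule W) ↦ ofFun.symm (F.map s)) hρ
    refine (ores_refl _).trans ?_
    exact h1
  · rintro ⟨u, rfl⟩
    exact toPic_unitCl u

/-- The kernel of `unitCl`. -/
theorem unitCl_eq_one_iff {u : Γ(W, ⊤)ˣ} :
    unitCl σ u = 1 ↔ ∃ a : Γ(Y, ⊤)ˣ, Units.map σ.appTop.hom.toMonoidHom a = u := by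
  constructor
  · intro h
    rw [unitCl_apply, one_def, RB.cls_eq_iff] at h
    obtain ⟨A⟩ := h
    obtain ⟨a, ha, hθ⟩ := Fam.exists_unit isInvertible_structureModule (Fam.id (Coh.structureModule Y)) A.θ
    refine ⟨ha.unit, Units.ext ?_⟩
    have h1 := v_eq A (one (X := Y) ⊤)
    have h2 : v (unitRB σ 1) (A.θ.map (one (X := Y) ⊤)) = σ.appTop a := by
      rw [hθ]
      change ores le_top (1 : Γ(W, ⊤)) * σ.app ⊤ (ores le_top a * 1) = _
      rw [map_one, one_mul, mul_one]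
      congr 1
      exact ores_refl _
    have h3 : v (unitRB σ u) (one (X := Y) ⊤) = u.1 := by
      change ores le_top u.1 * σ.app ⊤ 1 = _
      rw [map_one, mul_one]
      exact ores_refl _
    have h4 := (ores_refl _).symm.trans h1
    change v (unitRB σ 1) (A.θ.map (one (X := Y) ⊤)) = v (unitRB σ u) (one (X := Y) ⊤) at h4
    rw [h2, h3] at h4
    exact h4
  · rintro ⟨a, rfl⟩
    rw [unitCl_apply, one_def, RB.cls_eq_iff]
    refine ⟨⟨Fam.smulUnit a.isUnit (Fam.id _), (isArr_iff_v _ _).2 fun {U} s ↦ ?_⟩⟩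
    refine (ores_refl _).trans ?_
    change ores le_top (1 : Γ(W, ⊤)) * σ.app U (ores le_top a.1 * ofFun.symm s) =
      ores le_top (σ.appTop a.1) * σ.app U (ofFun.symm s)
    rw [map_one, one_mul, map_mul]
    congr 1
    exact app_ores σ le_top a.1

end Groth.Agent.Pic13.H557.RigGrp
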