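import Groth.Agent.Pic13.H126.PatchMain
import Groth.Agent.Pic13.H602.Sim
import Groth.Agent.Grpsch.PicGrp

/-!
# Gluing the trivial line bundles along a unit

A commutative square `w : i' ≫ b = π' ≫ i` (`b : X' ⟶ X`, `i : Y ⟶ X`, `Y'` over both).
`GlRel w u c` for a unit `u` on `Y'` and `c : Pic X`: the class `c` is represented by a module `L` with trivializations on
`X'` and on `Y` which differ on `Y'` by `u`.
-/

set_option autoImplicit false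
set_option backward.isDefEq.respectTransparency false

universe u

open CategoryTheory CategoryTheory.Limits AlgebraicGeometry TopologicalSpace Opposite

namespace Groth.Agent.Pic13.H557.GlAbs

open Groth.Agent.Fdesc Groth.Agent.Fdesc.LocGen Groth.Agent.Picfga.LineHom
  Groth.Agent.Picfga.LineDescent Groth.Agent.Picfga.LineFam
  Groth.Agent.Pic13.H126.Patch Groth.Agent.Pic13.H126.PatchMain Groth.Agent.Pic13.H17.Patch
  Groth.Agent.Pic13.H602.Rig Groth.Agent.Grpsch.PicGrp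

/-! ### Complements on families -/

section fam

variable {Y Y' Y'' : Scheme.{u}} {G : Y' ⟶ Y} {G' : Y'' ⟶ Y'} {L : Y.Modules} {L' : Y'.Modules}

/-- Change of a family by a unit. -/
noncomputable abbrev sm (v : Γ(Y', ⊤)ˣ) (F : Fam G L L') : Fam G L L' := Fam.smulUnit v.isUnit F

/-- Pull back of units. -/
noncomputable abbrev uu (G : Y' ⟶ Y) : Γ(Y, ⊤)ˣ →* Γ(Y', ⊤)ˣ := Units.map G.appTop.hom.toMonoidHom

theorem uu_comp (G' : Y'' ⟶ Y') (G : Y' ⟶ Y) (v : Γ(Y, ⊤)ˣ) : uu (G' ≫ G) v = uu G' (uu G v) := by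
  apply Units.ext
  change (G' ≫ G).appTop v.1 = G'.appTop (G.appTop v.1)
  rw [Scheme.Hom.comp_appTop]
  rfl

theorem uu_congr {G G₁ : Y' ⟶ Y} (h : G = G₁) (v : Γ(Y, ⊤)ˣ) : uu G v = uu G₁ v := by rw [h]

theorem sm_mul (v v' : Γ(Y', ⊤)ˣ) (F : Fam G L L') : sm v (sm v' F) = sm (v * v') F := by
  refine Fam.ext' fun U s ↦ ?_
  rw [Fam.smulUnit_map, Fam.smulUnit_map, Fam.smulUnit_map, smul_smul, ← map_mul]
  rfl

theorem sm_one (F : Fam G L L') : sm 1 F = F := Fam.smulUnit_one F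

theorem sm_injective (hL : PicF.IsInvertible L) (F : Fam G L L') {v v' : Γ(Y', ⊤)ˣ} (h : sm v F = sm v' F) :
    v = v' := Units.ext (Fam.eq_of_smulUnit_eq hL F _ _ h)

theorem exists_sm (hL : PicF.IsInvertible L) (F F' : Fam G L L') : ∃ v : Γ(Y', ⊤)ˣ, F' = sm v F := by
  obtain ⟨w, hw, h⟩ := Fam.exists_unit hL F F'
  exact ⟨hw.unit, h⟩

theorem comp_sm {L'' : Y''.Modules} (v : Γ(Y'', ⊤)ˣ) (F : Fam G L L') (F' : Fam G' L' L'') :
    F.comp (sm v F') = sm v (F.comp F') := rfl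

theorem sm_comp {L'' : Y''.Modules} (v : Γ(Y', ⊤)ˣ) (F : Fam G L L') (F' : Fam G' L' L'') :
    (sm v F).comp F' = sm (uu G' v) (F.comp F') := by
  refine Fam.ext' fun U s ↦ ?_
  rw [Fam.comp_map, Fam.smulUnit_map, F'.smul, app_ores]
  rfl

theorem sim_sm {G₁ : Y' ⟶ Y} {F : Fam G L L'} {F' : Fam G₁ L L'} (v : Γ(Y', ⊤)ˣ) (h : Sim F F') :
    Sim (sm v F) (sm v F') := by
  obtain ⟨rfl, h⟩ := h
  rw [Fam.cast_rfl] at h
  subst h
  exact Sim.refl _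

theorem can_comp (G' : Y'' ⟶ Y') (G : Y' ⟶ Y) : (Fam.can G).comp (Fam.can G') = Fam.can (G' ≫ G) := rfl

theorem sim_can {G G₁ : Y' ⟶ Y} (h : G = G₁) : Sim (Fam.can G) (Fam.can G₁) := by
  subst h; exact Sim.refl _

/-- The class of the target of a family. -/
theorem pull_eq_mk (hL : PicF.IsInvertible L) (hL' : PicF.IsInvertible L') (F : Fam G L L') :
    pull G (mk L hL) = mk L' hL' := by
  obtain ⟨ψ, -⟩ := F.exists_ofIso hL
  rw [pull_mk]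
  exact (mk_eq_iff _ _).2 ⟨ψ⟩

theorem exists_fam_of_pull_eq (hL : PicF.IsInvertible L) (hL' : PicF.IsInvertible L')
    (h : pull G (mk L hL) = mk L' hL') : Nonempty (Fam G L L') := by
  rw [pull_mk, mk_eq_iff] at h
  obtain ⟨ψ⟩ := h
  exact ⟨Fam.ofIso ψ⟩

end fam

/-! ### The relation -/

variable {X X' Y Y' : Scheme.{u}} {b : X' ⟶ X} {i : Y ⟶ X} {i' : Y' ⟶ X'} {π' : Y' ⟶ Y}

theorem compat_iff_sim (w : i' ≫ b = π' ≫ i) {L' : X'.Modules} {M : Y.Modules} {N : Y'.Modules}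
    (μ' : Fam i' L' N) (μ : Fam π' M N) {L : X.Modules}
    (θ' : Fam b L L') (θ : Fam i L M) : Compat w μ' μ θ' θ ↔ Sim (θ'.comp μ') (θ.comp μ) :=
  ⟨fun h ↦ ⟨w, h⟩, fun ⟨_, h⟩ ↦ h⟩

/-- `c` is obtained by gluing the trivial classes along the unit `u`. -/
def GlRel (_w : i' ≫ b = π' ≫ i) (v : Γ(Y', ⊤)ˣ) (c : Pic X) : Prop :=
  ∃ (L : X.Modules) (hL : PicF.IsInvertible L) (θ' : Fam b L (Coh.structureModule X'))
    (θ : Fam i L (Coh.structureModule Y)), mk L hL = c ∧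
      Sim (θ'.comp (Fam.can i')) (θ.comp (sm v (Fam.can π')))

namespace GlRel

variable {w : i' ≫ b = π' ≫ i} {v v₁ v₂ : Γ(Y', ⊤)ˣ} {c c' : Pic X}

theorem pull_left (h : GlRel w v c) : pull b c = 1 := by
  obtain ⟨L, hL, θ', θ, rfl, -⟩ := h
  exact pull_eq_mk hL isInvertible_structureModule θ'

theorem pull_right (h : GlRel w v c) : pull i c = 1 := by
  obtain ⟨L, hL, θ', θ, rfl, -⟩ := h
  exact pull_eq_mk hL isInvertible_structureModule θ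

/-- Classes which are trivial on `X'` and on `Y` come from units. -/
theorem exists_unit (w : i' ≫ b = π' ≫ i) (h₁ : pull b c = 1) (h₂ : pull i c = 1) : ∃ v, GlRel w v c := by
  obtain ⟨L, hL, rfl⟩ := exists_mk c
  obtain ⟨θ'⟩ := exists_fam_of_pull_eq hL isInvertible_structureModule h₁
  obtain ⟨θ⟩ := exists_fam_of_pull_eq hL isInvertible_structureModule h₂
  obtain ⟨v, hv⟩ := exists_sm hL (θ.comp (Fam.can π')) ((θ'.comp (Fam.can i')).cast w)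
  exact ⟨v, L, hL, θ', θ, rfl, ⟨w, hv⟩⟩

/-- The class is determined by the unit. -/
theorem unique (P : PatchSq b i i' π') (h : GlRel w v c) (h' : GlRel w v c') : c = c' := by
  obtain ⟨L₁, hL₁, θ₁', θ₁, rfl, c₁⟩ := h
  obtain ⟨L₂, hL₂, θ₂', θ₂, rfl, c₂⟩ := h'
  obtain ⟨ψ, -, -⟩ := exists_unique_hom P hL₁ hL₂ ((compat_iff_sim w _ _ _ _).2 c₁)
    ((compat_iff_sim w _ _ _ _).2 c₂)
  exact (mk_eq_iff _ _).2 ⟨ψ⟩

theorem precomp_sim {G G₁ : Y' ⟶ X} {L₁ L₂ : X.Modules} {L' : Y'.Modules} (φ : L₁ ≅ L₂) {F : Fam G L₂ L'}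
    {F' : Fam G₁ L₂ L'} (h : Sim F F') : Sim (precomp φ F) (precomp φ F') := by
  obtain ⟨rfl, h⟩ := h
  rw [Fam.cast_rfl] at h
  subst h
  exact Sim.refl _

/-- The unit is determined by the class up to units from `X'` and `Y`. -/
theorem exists_units (h : GlRel w v₁ c) (h' : GlRel w v₂ c) :
    ∃ (a : Γ(X', ⊤)ˣ) (e : Γ(Y, ⊤)ˣ), v₂ = uu i' a * (uu π' e)⁻¹ * v₁ := by
  obtain ⟨L₁, hL₁, θ₁', θ₁, rfl, c₁⟩ := h
  obtain ⟨L₂, hL₂, θ₂', θ₂, hc, c₂⟩ := h'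
  obtain ⟨ψ⟩ := (mk_eq_iff _ _).1 hc.symm
  obtain ⟨a, ha⟩ := exists_sm hL₁ θ₁' (precomp ψ θ₂')
  obtain ⟨e, he⟩ := exists_sm hL₁ θ₁ (precomp ψ θ₂)
  refine ⟨a, e, ?_⟩
  have h1 : Sim ((precomp ψ θ₂').comp (Fam.can i')) ((precomp ψ θ₂).comp (sm v₂ (Fam.can π'))) :=
    precomp_sim ψ c₂
  rw [ha, he, sm_comp, comp_sm, sm_comp, sm_mul] at h1
  have h2 : Sim (sm (uu i' a) (θ₁'.comp (Fam.can i'))) (sm (uu i' a * v₁) (θ₁.comp (Fam.can π'))) := by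
    rw [← sm_mul]
    exact sim_sm _ c₁
  have h3 := sm_injective hL₁ _ (h2.symm.trans h1).eq
  rw [mul_right_comm]
  exact eq_mul_inv_of_mul_eq h3.symm

/-- Change of the unit by units from `X'` and `Y`. -/
theorem change (h : GlRel w v c) (a : Γ(X', ⊤)ˣ) (e : Γ(Y, ⊤)ˣ) : GlRel w (uu i' a * (uu π' e)⁻¹ * v) c := by
  obtain ⟨L, hL, θ', θ, rfl, hc⟩ := h
  refine ⟨L, hL, sm a θ', sm e θ, rfl, ?_⟩
  rw [sm_comp, comp_sm, sm_comp, sm_mul]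
  have h2 : Sim (sm (uu i' a) (θ'.comp (Fam.can i'))) (sm (uu i' a * v) (θ.comp (Fam.can π'))) := by
    rw [← sm_mul]
    exact sim_sm _ hc
  rwa [mul_right_comm, inv_mul_cancel_right]

theorem iff_of (h : GlRel w v₁ c) : GlRel w v₂ c ↔
    ∃ (a : Γ(X', ⊤)ˣ) (e : Γ(Y, ⊤)ˣ), v₂ = uu i' a * (uu π' e)⁻¹ * v₁ :=
  ⟨fun h' ↦ exists_units h h', fun ⟨a, e, he⟩ ↦ he ▸ h.change a e⟩

/-- Existence. -/
theorem exists_class [IsProper b] [IsLocallyNoetherian X] [IsClosedImmersion i] (H : IsPullback i' π' b i)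
    (h : IsPatch b i.ker) (v : Γ(Y', ⊤)ˣ) : ∃ c : Pic X, GlRel H.w v c := by
  obtain ⟨L, θ', θ, hL, hc⟩ := exists_patch_of_isPullback H h isInvertible_structureModule
    isInvertible_structureModule (Fam.can i') (sm v (Fam.can π'))
  exact ⟨_, L, hL, θ', θ, rfl, (compat_iff_sim _ _ _ _ _).1 hc⟩

/-- Compatibility with base change. -/
theorem base {X₁ X₁' Y₁ Y₁' : Scheme.{u}} {b₁ : X₁' ⟶ X₁} {i₁ : Y₁ ⟶ X₁} {i₁' : Y₁' ⟶ X₁'} {π₁' : Y₁' ⟶ Y₁}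
    (w₁ : i₁' ≫ b₁ = π₁' ≫ i₁) {G : X₁ ⟶ X} {G' : X₁' ⟶ X'} {K : Y₁ ⟶ Y} {K' : Y₁' ⟶ Y'}
    (e₁ : b₁ ≫ G = G' ≫ b) (e₂ : i₁ ≫ G = K ≫ i) (e₃ : i₁' ≫ G' = K' ≫ i') (e₄ : π₁' ≫ K = K' ≫ π')
    (h : GlRel w v c) : GlRel w₁ (uu K' v) (pull G c) := by
  obtain ⟨L, hL, θ', θ, rfl, hc⟩ := h
  let κ : Fam G L ((Scheme.Modules.pullback G).obj L) := Fam.ofIso (Iso.refl _)
  obtain ⟨θ₁', h₁'⟩ := exists_rig e₁ hL θ' κ
  obtain ⟨θ₁, h₁⟩ := exists_rig e₂ hL θ κ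
  rw [isArr_iff_sim] at h₁' h₁
  refine ⟨_, isInvertible_pullback G hL, θ₁', θ₁, rfl, ?_⟩
  refine Sim.cancel hL κ w₁ ?_
  have s1 : Sim (κ.comp (θ₁'.comp (Fam.can i₁'))) (θ'.comp (Fam.can (i₁' ≫ G'))) :=
    h₁'.comp_left (Fam.can i₁')
  have s2 : Sim (θ'.comp (Fam.can (i₁' ≫ G'))) ((θ'.comp (Fam.can i')).comp (Fam.can K')) :=
    Sim.comp_right θ' (sim_can e₃)
  have s3 : Sim ((θ'.comp (Fam.can i')).comp (Fam.can K')) ((θ.comp (sm v (Fam.can π'))).comp (Fam.can K')) :=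
    hc.comp_left _
  have s4 : (θ.comp (sm v (Fam.can π'))).comp (Fam.can K') =
      sm (uu K' v) (θ.comp (Fam.can (K' ≫ π'))) := by
    rw [comp_sm, sm_comp]
    rfl
  have s5 : Sim (θ.comp (Fam.can (K' ≫ π'))) (θ.comp (Fam.can (π₁' ≫ K))) :=
    Sim.comp_right θ (sim_can e₄.symm)
  have s6 : Sim (θ.comp (Fam.can (π₁' ≫ K))) (κ.comp (θ₁.comp (Fam.can π₁'))) :=
    (h₁.comp_left (Fam.can π₁')).symm
  refine ((s1.trans s2).trans s3).trans ?_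
  rw [s4]
  exact sim_sm _ (s5.trans s6)

end GlRel

/-- Gluing of classes: existence. -/
theorem exists_glue [IsProper b] [IsLocallyNoetherian X] [IsClosedImmersion i] (H : IsPullback i' π' b i)
    (h : IsPatch b i.ker) {c' : Pic X'} {d : Pic Y} (hcd : pull i' c' = pull π' d) :
    ∃ c : Pic X, pull b c = c' ∧ pull i c = d := by
  obtain ⟨L', hL', rfl⟩ := exists_mk c'
  obtain ⟨M, hM, rfl⟩ := exists_mk d
  let N := (Scheme.Modules.pullback i').obj L'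
  have hN : PicF.IsInvertible N := isInvertible_pullback i' hL'
  obtain ⟨μ⟩ := exists_fam_of_pull_eq (L' := N) hM hN (by rw [← hcd]; rfl)
  obtain ⟨L, θ', θ, hL, hc⟩ := exists_patch_of_isPullback H h hL' hM (Fam.ofIso (Iso.refl _)) μ
  exact ⟨mk L hL, pull_eq_mk hL hL' θ', pull_eq_mk hL hM θ⟩

end Groth.Agent.Pic13.H557.GlAbs
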