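import Mathlib.RingTheory.Localization.Away.Basic
import Mathlib.RingTheory.Finiteness.Basic
import Mathlib.RingTheory.Finiteness.Finsupp
import Mathlib.RingTheory.FiniteType

/-!
# The conductor of a ring homomorphism

`cond φ` for `φ : A →+* B` is the ideal of the `c : A` with `B · φ c ⊆ φ(A)`.  For `φ` finite it commutes with
localization away from an element (`map_cond`).
-/

set_option autoImplicit false

namespace Groth.Agent.Pic13.H557.Cond

section

variable {A B : Type*} [CommRing A] [CommRing B] (φ : A →+* B)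

/-- The conductor of a ring homomorphism `φ : A → B`: the elements `c` of `A` with `B · φ c ⊆ φ(A)`. -/
def cond : Ideal A where
  carrier := {c | ∀ x : B, ∃ c' : A, φ c' = x * φ c}
  add_mem' := by
    intro c d hc hd x
    obtain ⟨c', h1⟩ := hc x
    obtain ⟨d', h2⟩ := hd x
    exact ⟨c' + d', by rw [map_add, h1, h2, map_add, mul_add]⟩
  zero_mem' x := ⟨0, by simp⟩
  smul_mem' a c hc x := by
    obtain ⟨c', h1⟩ := hc (x * φ a)
    exact ⟨c', by rw [h1, smul_eq_mul, map_mul, mul_assoc]⟩

variable {φ}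

theorem mem_cond {c : A} : c ∈ cond φ ↔ ∀ x : B, ∃ c' : A, φ c' = x * φ c := Iff.rfl

/-- The conductor is an ideal of `B`. -/
theorem exists_mem_cond {c : A} (hc : c ∈ cond φ) (x : B) : ∃ c' ∈ cond φ, φ c' = x * φ c := by
  obtain ⟨c', h⟩ := hc x
  refine ⟨c', fun y => ?_, h⟩
  obtain ⟨c'', h'⟩ := hc (y * x)
  exact ⟨c'', by rw [h', h, mul_assoc]⟩

theorem cond_eq_top (h : Function.Surjective φ) : cond φ = ⊤ :=
  eq_top_iff.mpr fun c _ x => by
    obtain ⟨a, rfl⟩ := h x
    exact ⟨a * c, map_mul φ a c⟩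

theorem surjective_of_cond (h : cond φ = ⊤) : Function.Surjective φ := fun x => by
  have h1 : (1 : A) ∈ cond φ := h ▸ Submodule.mem_top
  obtain ⟨a, ha⟩ := h1 x
  exact ⟨a, by rw [ha, map_one, mul_one]⟩

/-- It suffices to test the condition on a generating set. -/
theorem mem_cond_of_span {c : A} (s : Set B)
    (hs : ∀ x : B, x ∈ (letI := φ.toAlgebra; Submodule.span A s))
    (h : ∀ x ∈ s, ∃ c' : A, φ c' = x * φ c) : c ∈ cond φ := by
  let := φ.toAlgebra
  intro x
  refine Submodule.span_induction (p := fun x _ => ∃ c' : A, φ c' = x * φ c) (fun x hx => h x hx)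
    ⟨0, by simp⟩ ?_ ?_ (hs x)
  · rintro x y _ _ ⟨a, ha⟩ ⟨b, hb⟩
    exact ⟨a + b, by rw [map_add, ha, hb, add_mul]⟩
  · rintro a x _ ⟨b, hb⟩
    refine ⟨a * b, ?_⟩
    rw [map_mul, hb, Algebra.smul_def, mul_assoc]
    rfl

end

/-- The conductor of a finite ring homomorphism commutes with localization away from an element. -/
theorem map_cond {A B A' B' : Type*} [CommRing A] [CommRing B] [CommRing A'] [CommRing B'] [Algebra A A']
    [Algebra B B'] {φ : A →+* B} {φ' : A' →+* B'} (f : A) [IsLocalization.Away f A']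
    [IsLocalization.Away (φ f) B'] (hc : ∀ a, φ' (algebraMap A A' a) = algebraMap B B' (φ a)) (hφ : φ.Finite) :
    (cond φ).map (algebraMap A A') = cond φ' := by
  apply le_antisymm
  · rw [Ideal.map_le_iff_le_comap]
    intro c hcc x
    rw [hc]
    obtain ⟨⟨y, ⟨_, n, rfl⟩⟩, hy⟩ := IsLocalization.surj (M := Submonoid.powers (φ f)) x
    obtain ⟨c', hc'⟩ := hcc y
    refine ⟨IsLocalization.mk' (M := Submonoid.powers f) A' c' ⟨f ^ n, n, rfl⟩, ?_⟩
    have hu : IsUnit (algebraMap B B' (φ f ^ n)) :=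
      IsLocalization.map_units (M := Submonoid.powers (φ f)) B' ⟨φ f ^ n, n, rfl⟩
    refine hu.mul_left_injective ?_
    have h1 : φ' (IsLocalization.mk' (M := Submonoid.powers f) A' c' ⟨f ^ n, n, rfl⟩) *
        algebraMap B B' (φ f ^ n) = algebraMap B B' (φ c') := by
      have h2 : IsLocalization.mk' (M := Submonoid.powers f) A' c' ⟨f ^ n, n, rfl⟩ * algebraMap A A' (f ^ n) =
          algebraMap A A' c' := IsLocalization.mk'_spec A' c' (⟨f ^ n, n, rfl⟩ : Submonoid.powers f)
      rw [← map_pow, ← hc, ← map_mul, h2, hc]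
    change φ' _ * _ = x * _ * _
    rw [h1, hc', map_mul, ← hy]
    ring
  · intro c' hc'
    obtain ⟨⟨c, ⟨_, n, rfl⟩⟩, hn⟩ := IsLocalization.surj (M := Submonoid.powers f) c'
    have hu : IsUnit (algebraMap A A' (f ^ n)) :=
      IsLocalization.map_units (M := Submonoid.powers f) A' ⟨f ^ n, n, rfl⟩
    have h2 : algebraMap A A' c ∈ cond φ' := by
      rw [← hn]
      exact (cond φ').mul_mem_right _ hc'
    suffices h3 : algebraMap A A' c ∈ (cond φ).map (algebraMap A A') by
      change c' * algebraMap A A' (f ^ n) = algebraMap A A' c at hn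
      rw [← hn] at h3
      exact (Ideal.mul_unit_mem_iff_mem _ hu).mp h3
    clear hn hc' hu
    let := φ.toAlgebra
    obtain ⟨s, hs⟩ : (⊤ : Submodule A B).FG := hφ.fg_top
    -- for each `x : B` some power of `f` works
    have key : ∀ x : B, ∃ k : ℕ, ∃ a : A, φ a = x * φ (f ^ k * c) := by
      intro x
      obtain ⟨z, hz⟩ := h2 (algebraMap B B' x)
      obtain ⟨⟨a, ⟨_, m, rfl⟩⟩, ham⟩ := IsLocalization.surj (M := Submonoid.powers f) z
      change z * algebraMap A A' (f ^ m) = algebraMap A A' a at ham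
      have h4 : algebraMap B B' (φ a) = algebraMap B B' (x * φ (f ^ m * c)) := by
        rw [← hc, ← ham, map_mul, hz, hc, hc, ← map_mul, ← map_mul, map_mul φ]
        congr 1
        ring
      obtain ⟨⟨_, j, rfl⟩, hj⟩ := IsLocalization.exists_of_eq (M := Submonoid.powers (φ f)) h4
      refine ⟨j + m, f ^ j * a, ?_⟩
      change φ f ^ j * φ a = φ f ^ j * (x * φ (f ^ m * c)) at hj
      rw [map_mul, map_pow, hj, pow_add, map_mul, map_mul, map_mul, map_pow, map_pow]
      ring
    choose k a hka using key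
    have h5 : ∃ K : ℕ, ∀ x ∈ s, k x ≤ K := ⟨s.sup k, fun x hx => Finset.le_sup hx⟩
    obtain ⟨K, hK⟩ := h5
    have h6 : f ^ K * c ∈ cond φ := by
      refine mem_cond_of_span (s : Set B) (fun x => hs ▸ Submodule.mem_top) fun x hx => ?_
      refine ⟨f ^ (K - k x) * a x, ?_⟩
      have : f ^ K = f ^ (K - k x) * f ^ k x := by
        rw [← pow_add, Nat.sub_add_cancel (hK x hx)]
      rw [map_mul, hka, this, mul_assoc, map_mul φ (f ^ (K - k x))]
      ring
    have h7 : algebraMap A A' (f ^ K * c) ∈ (cond φ).map (algebraMap A A') := Ideal.mem_map_of_mem _ h6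
    rw [map_mul] at h7
    exact (Ideal.unit_mul_mem_iff_mem _
      (IsLocalization.map_units (M := Submonoid.powers f) A' ⟨f ^ K, K, rfl⟩)).mp h7

end Groth.Agent.Pic13.H557.Cond
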