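import Groth.Agent.Pic13.H557.GeoOpen

/-!
# Geometrically integral generic fibres

`GI f` for `f : X ⟶ S`, `S` irreducible: the generic fibre of `f` is geometrically integral.  It may be tested on nonempty
open subschemes of an integral `X` (`gi_iff_of_isOpenImmersion`), hence is invariant under modifications
(`gi_of_birational`).  `gi_of_component`: if the generic fibre of `f` is geometrically reduced and its irreducible components
are geometrically irreducible then `GI` holds for the irreducible components of `X` which dominate `S`.
-/

set_option autoImplicit false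
universe u

open CategoryTheory CategoryTheory.Limits AlgebraicGeometry TopologicalSpace

namespace Groth.Agent.Pic13.H557.GeoInt

open Groth.Agent.Pic13.H557.GeoOpen

/-- The generic fibre is geometrically integral. -/
def GI {X S : Scheme.{u}} [IrreducibleSpace S] (f : X ⟶ S) : Prop :=
  GeometricallyIntegral (f.fiberToSpecResidueField (genericPoint S))

section

variable {W X S : Scheme.{u}}

/-- The morphism induced on fibres. -/
theorem exists_fiberMap (j : W ⟶ X) (f : X ⟶ S) (s : S) :
    ∃ e : (j ≫ f).fiber s ⟶ f.fiber s, e ≫ f.fiberToSpecResidueField s = (j ≫ f).fiberToSpecResidueField s ∧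
      IsPullback ((j ≫ f).fiberι s) e j (f.fiberι s) := by
  have h0 : IsPullback (f.fiberι s) (f.fiberToSpecResidueField s) f (S.fromSpecResidueField s) :=
    IsPullback.of_hasPullback _ _
  have h1 : IsPullback ((j ≫ f).fiberι s) ((j ≫ f).fiberToSpecResidueField s) (j ≫ f) (S.fromSpecResidueField s) :=
    IsPullback.of_hasPullback _ _
  obtain ⟨e, he⟩ : ∃ e, e = h0.lift ((j ≫ f).fiberι s ≫ j) ((j ≫ f).fiberToSpecResidueField s)
    (by rw [Category.assoc, h1.w]) := ⟨_, rfl⟩
  have he1 : e ≫ f.fiberι s = (j ≫ f).fiberι s ≫ j := he ▸ h0.lift_fst _ _ _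
  have he2 : e ≫ f.fiberToSpecResidueField s = (j ≫ f).fiberToSpecResidueField s := he ▸ h0.lift_snd _ _ _
  refine ⟨e, he2, ?_⟩
  refine IsPullback.of_bot (v₂₁ := f.fiberToSpecResidueField s) (v₂₂ := f) (h₃₁ := S.fromSpecResidueField s) ?_
    he1.symm h0
  rw [he2]
  exact h1

instance subsingleton_Spec_residueField (s : S) : Subsingleton (Spec (S.residueField s)) :=
  inferInstanceAs (Subsingleton (PrimeSpectrum (S.residueField s)))

/-- A morphism from an integral scheme whose generic fibre is nonempty maps the generic point to the generic
point. -/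
theorem map_genericPoint [IrreducibleSpace X] [IrreducibleSpace S] (f : X ⟶ S)
    (h : Nonempty (f.fiber (genericPoint S))) : f (genericPoint X) = genericPoint S := by
  obtain ⟨z⟩ := h
  have h1 : f (f.fiberι (genericPoint S) z) = genericPoint S := by
    have := f.range_fiberι (genericPoint S)
    have h2 : f.fiberι (genericPoint S) z ∈ f ⁻¹' {genericPoint S} := this ▸ Set.mem_range_self z
    exact h2
  have h3 : f (genericPoint X) ⤳ genericPoint S := by
    rw [← h1]
    exact (genericPoint_specializes _).map f.continuous
  exact (h3.antisymm (genericPoint_specializes _)).eq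

/-- The generic fibre of an integral scheme dominating an integral scheme is integral. -/
theorem isIntegral_genericFiber [IsIntegral X] [IsIntegral S] (f : X ⟶ S)
    (h : f (genericPoint X) = genericPoint S) : IsIntegral (f.fiber (genericPoint S)) := by
  have hred := Flat2E.GenericFibre.isReduced_genericFiber f
  have h1 : genericPoint X ∈ Set.range (f.fiberι (genericPoint S)) := by
    rw [f.range_fiberι]
    exact h
  obtain ⟨z, hz⟩ := h1
  have h2 : closure {z} = Set.univ := by
    rw [(f.fiberι (genericPoint S)).isEmbedding.isInducing.closure_eq_preimage_closure_image, Set.image_singleton, hz,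
      genericPoint_closure]
    rfl
  have h3 : IrreducibleSpace (f.fiber (genericPoint S)) := by
    rw [irreducibleSpace_def]
    change IsIrreducible (Set.univ : Set _)
    rw [← h2, isIrreducible_iff_closure]
    exact isIrreducible_singleton
  exact isIntegral_of_irreducibleSpace_of_isReduced _

/-- Geometric integrality of the generic fibre may be tested on a nonempty open subscheme. -/
theorem gi_of_isOpenImmersion [IsIntegral X] [IsIntegral S] (j : W ⟶ X) [IsOpenImmersion j] (f : X ⟶ S)
    (h : GI (j ≫ f)) : GI f := by
  have hW : IsReduced W := isReduced_of_isOpenImmersion j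
  have h' : GeometricallyIntegral ((j ≫ f).fiberToSpecResidueField (genericPoint S)) := h
  have hne : Nonempty ((j ≫ f).fiber (genericPoint S)) := by
    obtain ⟨x, -⟩ := ((j ≫ f).fiberToSpecResidueField (genericPoint S)).surjective
      (Classical.arbitrary (Spec (S.residueField (genericPoint S))))
    exact ⟨x⟩
  obtain ⟨e, he, hp⟩ := exists_fiberMap j f (genericPoint S)
  have he' : IsOpenImmersion e := MorphismProperty.of_isPullback hp (inferInstance : IsOpenImmersion j)
  have hne' : Nonempty (f.fiber (genericPoint S)) := hne.map e
  have hint : IsIntegral (f.fiber (genericPoint S)) := isIntegral_genericFiber f (map_genericPoint f hne')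
  have h1 : GeometricallyIrreducible (e ≫ f.fiberToSpecResidueField (genericPoint S)) := by
    rw [he]; infer_instance
  have h2 : GeometricallyReduced (e ≫ f.fiberToSpecResidueField (genericPoint S)) := by
    rw [he]; infer_instance
  have h3 := geometricallyIrreducible_of_open _ e h1
  have h4 := geometricallyReduced_of_open _ e h2
  exact GeometricallyIntegral.of_geometricallyReduced_of_geometricallyIrreducible _

/-- A nonempty open subscheme inherits a geometrically integral generic fibre. -/
theorem gi_comp_of_isOpenImmersion [IsIntegral X] [IsIntegral S] (j : W ⟶ X) [IsOpenImmersion j] [Nonempty W]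
    (f : X ⟶ S) (h : GI f) : GI (j ≫ f) := by
  have h' : GeometricallyIntegral (f.fiberToSpecResidueField (genericPoint S)) := h
  have hne : Nonempty (f.fiber (genericPoint S)) := by
    obtain ⟨x, -⟩ := (f.fiberToSpecResidueField (genericPoint S)).surjective
      (Classical.arbitrary (Spec (S.residueField (genericPoint S))))
    exact ⟨x⟩
  obtain ⟨e, he, hp⟩ := exists_fiberMap j f (genericPoint S)
  have he' : IsOpenImmersion e := MorphismProperty.of_isPullback hp (inferInstance : IsOpenImmersion j)
  have hW : IsIntegral W := isIntegral_of_isOpenImmersion j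
  have h1 : (j ≫ f) (genericPoint W) = genericPoint S := by
    rw [Scheme.Hom.comp_apply, genericPoint_eq_of_isOpenImmersion j, map_genericPoint f hne]
  have hne' : Nonempty ((j ≫ f).fiber (genericPoint S)) :=
    (isIntegral_genericFiber (j ≫ f) h1).nonempty
  have hsurj : Surjective (e ≫ f.fiberToSpecResidueField (genericPoint S)) :=
    ⟨fun y => ⟨Classical.choice hne', Subsingleton.elim _ _⟩⟩
  have h2 : GeometricallyIrreducible (e ≫ f.fiberToSpecResidueField (genericPoint S)) := inferInstance
  have h3 : GeometricallyReduced (e ≫ f.fiberToSpecResidueField (genericPoint S)) :=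
    geometricallyReduced_comp e _
  rw [he] at h2 h3
  exact GeometricallyIntegral.of_geometricallyReduced_of_geometricallyIrreducible _

end

/-- Modifications inherit a geometrically integral generic fibre. -/
theorem gi_of_birational {X X' S : Scheme.{u}} [IsIntegral X] [IsIntegral X'] [IsIntegral S] (f : X ⟶ S) (b : X' ⟶ X)
    (U : X.Opens) (hU : (U : Set X).Nonempty) [IsIso (b ∣_ U)] (h : GI f) : GI (b ≫ f) := by
  have hne : Nonempty (U : Scheme.{u}) := hU.to_subtype
  have h1 := gi_comp_of_isOpenImmersion U.ι f h
  refine gi_of_isOpenImmersion (inv (b ∣_ U) ≫ (b ⁻¹ᵁ U).ι) (b ≫ f) ?_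
  have h2 : (inv (b ∣_ U) ≫ (b ⁻¹ᵁ U).ι) ≫ b ≫ f = U.ι ≫ f := by
    rw [Category.assoc, IsIso.inv_comp_eq, ← Category.assoc, ← Category.assoc, morphismRestrict_ι]
  rw [h2]
  exact h1

/-- The irreducible components which dominate the base have geometrically integral generic fibres if the generic
fibre is geometrically reduced with geometrically irreducible components. -/
theorem gi_of_component {X S : Scheme.{u}} [IsIntegral S] [NoetherianSpace X] (f : X ⟶ S)
    (hred : GeometricallyReduced (f.fiberToSpecResidueField (genericPoint S)))
    (hirr : ∀ (Z : Set (f.fiber (genericPoint S))) (hZ : Z ∈ irreducibleComponents (f.fiber (genericPoint S))),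
      GeometricallyIrreducible ((Scheme.IdealSheafData.vanishingIdeal
        (⟨Z, isClosed_of_mem_irreducibleComponents Z hZ⟩ : Closeds _)).subschemeι ≫
          f.fiberToSpecResidueField (genericPoint S)))
    {T : Scheme.{u}} (i : T ⟶ X) [IsClosedImmersion i] [IsIntegral T]
    (hmax : Set.range i ∈ irreducibleComponents X) (hη : (i ≫ f) (genericPoint T) = genericPoint S) :
    GI (i ≫ f) := by
  obtain ⟨e, he, hp⟩ := exists_fiberMap i f (genericPoint S)
  have he' : IsClosedImmersion e := MorphismProperty.of_isPullback hp (inferInstance : IsClosedImmersion i)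
  have hint := isIntegral_genericFiber (i ≫ f) hη
  have hmax' : Set.range e ∈ irreducibleComponents (f.fiber (genericPoint S)) := by
    refine ⟨?_, fun Z hZ hle => ?_⟩
    · rw [← Set.image_univ]
      exact (IrreducibleSpace.isIrreducible_univ _).image _ e.continuous.continuousOn
    · let c := f.fiberι (genericPoint S)
      have h1 : i (genericPoint T) ∈ c '' Z := by
        have h2 : genericPoint T ∈ Set.range ((i ≫ f).fiberι (genericPoint S)) := by
          rw [Scheme.Hom.range_fiberι]
          exact hη
        obtain ⟨t, ht⟩ := h2
        refine ⟨e t, hle (Set.mem_range_self t), ?_⟩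
        rw [← Scheme.Hom.comp_apply, ← hp.w, Scheme.Hom.comp_apply, ht]
      have h2 : Set.range i ≤ closure (c '' Z) := by
        rw [← Set.image_univ, ← genericPoint_closure (α := T)]
        refine (image_closure_subset_closure_image i.continuous).trans (closure_mono ?_)
        rw [Set.image_singleton, Set.singleton_subset_iff]
        exact h1
      have h3 : closure (c '' Z) ≤ Set.range i :=
        hmax.2 (isIrreducible_iff_closure.mpr (hZ.image _ c.continuous.continuousOn)) h2
      intro z hz
      obtain ⟨t, ht⟩ := h3 (subset_closure ⟨z, hz, rfl⟩)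
      obtain ⟨w, -, hw⟩ := Scheme.exists_preimage_of_isPullback hp t z ht
      exact ⟨w, hw⟩
  have hN : NoetherianSpace (f.fiber (genericPoint S)) :=
    (f.fiberι (genericPoint S)).isEmbedding.isInducing.noetherianSpace
  have h1 := geometricallyReduced_of_component _ e hred hmax'
  have h2 := geometricallyIrreducible_of_component _ e ⟨Set.range e, isClosed_of_mem_irreducibleComponents _ hmax'⟩ rfl
    (hirr _ hmax')
  rw [he] at h1 h2
  exact GeometricallyIntegral.of_geometricallyReduced_of_geometricallyIrreducible _

end Groth.Agent.Pic13.H557.GeoInt
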