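import Mathlib.AlgebraicGeometry.Geometrically.Integral
import Mathlib.AlgebraicGeometry.Morphisms.SchemeTheoreticallyDominant
import Mathlib.AlgebraicGeometry.Noetherian
import Groth.Agent.Flat2E.GenericFibre
import Groth.Agent.Flat2E.SpreadScheme

/-!
# Geometric properties over a field and open subschemes

Let `Y` be the spectrum of a field and `t : T ⟶ Y`.  If `T` is irreducible (integral) and a nonempty open subscheme of
`T` is geometrically irreducible (geometrically reduced) over `Y`, then so is `T`.  A reduced irreducible component
of a geometrically reduced scheme is geometrically reduced.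
-/

set_option autoImplicit false
universe u

open CategoryTheory CategoryTheory.Limits AlgebraicGeometry TopologicalSpace

namespace Groth.Agent.Pic13.H557.GeoOpen

section

variable {T U Y : Scheme.{u}} [IsIntegral Y] [Subsingleton Y] (t : T ⟶ Y) (j : U ⟶ T) [IsOpenImmersion j]

/-- An irreducible scheme over a field with a nonempty geometrically irreducible open subscheme is geometrically
irreducible. -/
theorem geometricallyIrreducible_of_open [IrreducibleSpace T] [Nonempty U]
    (h : GeometricallyIrreducible (j ≫ t)) : GeometricallyIrreducible t := by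
  refine ⟨fun K _ y Z fst snd hZ => ?_⟩
  have h2 : IsPullback (pullback.fst j fst) (pullback.snd j fst ≫ snd) (j ≫ t) y :=
    (IsPullback.of_hasPullback j fst).paste_vert hZ
  have h3 : IrreducibleSpace (pullback j fst : Scheme.{u}) := h.geometrically_irreducibleSpace _ _ _ h2
  have h4 : UniversallyOpen fst := MorphismProperty.of_isPullback hZ.flip (inferInstance : UniversallyOpen y)
  have h5 : Dense (Set.range j) := j.isOpenEmbedding.isOpen_range.dense (Set.range_nonempty j)
  have h6 : closure (Set.range (pullback.snd j fst)) = Set.univ := by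
    have h7 : Set.range (pullback.snd j fst) = fst ⁻¹' (Set.range j) := by
      rw [Scheme.Pullback.range_snd]
    rw [h7, ← fst.isOpenMap.preimage_closure_eq_closure_preimage fst.continuous, h5.closure_eq, Set.preimage_univ]
  change IrreducibleSpace Z
  rw [irreducibleSpace_def]
  change IsIrreducible (Set.univ : Set Z)
  rw [← h6, isIrreducible_iff_closure, ← Set.image_univ]
  exact (IrreducibleSpace.isIrreducible_univ _).image _ (pullback.snd j fst).continuous.continuousOn

/-- An integral scheme over a field with a nonempty geometrically reduced open subscheme is geometrically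
reduced. -/
theorem geometricallyReduced_of_open [IsIntegral T] [Nonempty U]
    (h : GeometricallyReduced (j ≫ t)) : GeometricallyReduced t := by
  refine ⟨fun K _ y Z fst snd hZ => ?_⟩
  have h2 : IsPullback (pullback.fst j fst) (pullback.snd j fst ≫ snd) (j ≫ t) y :=
    (IsPullback.of_hasPullback j fst).paste_vert hZ
  have h3 : IsReduced (pullback j fst : Scheme.{u}) := h.geometrically_isReduced _ _ _ h2
  have h4 : Flat fst := MorphismProperty.of_isPullback hZ.flip (inferInstance : Flat y)
  have hf : IsField (T.presheaf.stalk (genericPoint T)) :=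
    isField_stalk_of_closure_mem_irreducibleComponents T _ (by
      simp [irreducibleComponents_eq_singleton, genericPoint_closure])
  let := hf.toField
  let g : Spec (T.presheaf.stalk (genericPoint T)) ⟶ T := T.fromSpecStalk (genericPoint T)
  have hfin : Subsingleton (Spec (T.presheaf.stalk (genericPoint T))) :=
    inferInstanceAs (Subsingleton (PrimeSpectrum (T.presheaf.stalk (genericPoint T))))
  have hpt : ∀ x, g x = genericPoint T := fun x => by
    rw [Subsingleton.elim x (IsLocalRing.closedPoint _)]
    exact T.fromSpecStalk_closedPoint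
  have hqc : QuasiCompact g := ⟨fun _ _ _ => (Set.toFinite _).isCompact⟩
  have hdom : IsDominant g := by
    rw [isDominant_iff, denseRange_iff_closure_range]
    refine Set.eq_univ_of_univ_subset ?_
    rw [← genericPoint_closure (α := T)]
    refine closure_mono ?_
    rintro _ rfl
    exact ⟨IsLocalRing.closedPoint _, hpt _⟩
  have hsd : IsSchemeTheoreticallyDominant g := .of_isDominant g
  have hg : Flat g := Flat2E.GenericFibre.flat_fromSpecStalk T _
  have hgm : Mono g := inferInstance
  have hη : genericPoint T ∈ Set.range j :=
    ((genericPoint_spec T).mem_open_set_iff j.isOpenEmbedding.isOpen_range).mpr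
      (by simpa using Set.range_nonempty j)
  let g' : Spec (T.presheaf.stalk (genericPoint T)) ⟶ U := IsOpenImmersion.lift j g (by
    rintro _ ⟨x, rfl⟩
    rw [hpt]
    exact hη)
  have hg' : g' ≫ j = g := IsOpenImmersion.lift_fac _ _ _
  have hg'm : Mono g' := by
    have : Mono (g' ≫ j) := by rw [hg']; exact hgm
    exact mono_of_mono g' j
  have hg'f : Flat g' := by
    have : Flat (g' ≫ j) := by rw [hg']; exact hg
    exact MorphismProperty.of_postcomp @Flat g' j (inferInstance : IsOpenImmersion j) this
  let m : pullback fst g ⟶ pullback j fst :=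
    pullback.lift (pullback.snd fst g ≫ g') (pullback.fst fst g) (by
      rw [Category.assoc, hg', pullback.condition])
  have hm1 : m ≫ pullback.fst j fst = pullback.snd fst g ≫ g' := pullback.lift_fst _ _ _
  have hm2 : m ≫ pullback.snd j fst = pullback.fst fst g := pullback.lift_snd _ _ _
  have hm : IsPullback m (pullback.snd fst g) (pullback.fst j fst) g' := by
    refine IsPullback.of_right (h₁₂ := pullback.snd j fst) (h₂₂ := j) (v₁₃ := fst) ?_ hm1
      (IsPullback.of_hasPullback j fst).flip
    rw [hm2, hg']
    exact IsPullback.of_hasPullback fst g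
  have hmf : Flat m := MorphismProperty.of_isPullback hm.flip hg'f
  have hmm : Mono m := (MorphismProperty.monomorphisms Scheme.{u}).of_isPullback hm.flip hg'm
  have hred : IsReduced (pullback fst g : Scheme.{u}) := Flat2E.GenericFibre.isReduced_of_flat_mono m
  exact IsSchemeTheoreticallyDominant.isReduced (pullback.fst fst g)

/-- A morphism over a field remains geometrically reduced on an open subscheme. -/
theorem geometricallyReduced_comp {X Y S : Scheme.{u}} (i : X ⟶ Y) [IsOpenImmersion i] (f : Y ⟶ S)
    [GeometricallyReduced f] : GeometricallyReduced (i ≫ f) := by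
  refine ⟨fun K _ y Z fst snd hZ => ?_⟩
  have h1 := IsPullback.of_hasPullback f y
  obtain ⟨c, h2⟩ : ∃ c, IsPullback fst c i (pullback.fst f y) := ⟨_, hZ.of_bot' h1⟩
  have h3 : IsOpenImmersion c := MorphismProperty.of_isPullback h2 inferInstance
  have h4 : IsReduced (pullback f y) := GeometricallyReduced.geometrically_isReduced _ _ _ h1
  exact isReduced_of_isOpenImmersion c

end

section

variable {T F Y : Scheme.{u}} [IsIntegral Y] [Subsingleton Y] (p : F ⟶ Y) (e : T ⟶ F) [IsClosedImmersion e]
  [IsIntegral T]

/-- The reduced irreducible components of a geometrically reduced Noetherian scheme over a field are geometrically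
reduced. -/
theorem geometricallyReduced_of_component [NoetherianSpace F] (hp : GeometricallyReduced p)
    (hmax : Set.range e ∈ irreducibleComponents F) : GeometricallyReduced (e ≫ p) := by
  obtain ⟨o, ho, hne, hle⟩ := NoetherianSpace.exists_isOpen_nonempty_subset_irreducibleComponent _ hmax
  let O : F.Opens := ⟨o, ho⟩
  have hF : IsReduced F := self_of_isIntegral_of_geometrically hp.geometrically_isReduced
  have hsurj : Surjective (e ∣_ O) := by
    refine ⟨fun x => ?_⟩
    obtain ⟨z, hz⟩ := hle x.2
    have hz' : z ∈ e ⁻¹ᵁ O := by
      change e z ∈ O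
      rw [hz]
      exact x.2
    refine ⟨⟨z, hz'⟩, Subtype.ext ?_⟩
    rw [morphismRestrict_base_coe]
    exact hz
  have hiso : IsIso (e ∣_ O) := isIso_of_isClosedImmersion_of_surjective _
  have hne' : Nonempty (e ⁻¹ᵁ O : T.Opens) := by
    obtain ⟨x, hx⟩ := hne
    obtain ⟨z, hz⟩ := hle hx
    exact ⟨⟨z, by change e z ∈ O; rw [hz]; exact hx⟩⟩
  refine geometricallyReduced_of_open (e ≫ p) (e ⁻¹ᵁ O).ι ?_
  have h1 : (e ⁻¹ᵁ O).ι ≫ e ≫ p = (e ∣_ O) ≫ (O.ι ≫ p) := by
    rw [← Category.assoc, ← Category.assoc, morphismRestrict_ι]
  rw [h1]
  have := geometricallyReduced_comp O.ι p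
  exact geometricallyReduced_comp (e ∣_ O) (O.ι ≫ p)

omit [IsIntegral Y] [Subsingleton Y] in
/-- Comparison of a closed immersion of an integral scheme with the reduced induced structure of its image. -/
theorem geometricallyIrreducible_of_component (Z : Closeds F) (hZ : (Z : Set F) = Set.range e)
    (h : GeometricallyIrreducible ((Scheme.IdealSheafData.vanishingIdeal Z).subschemeι ≫ p)) :
    GeometricallyIrreducible (e ≫ p) := by
  obtain ⟨j, hj⟩ := Flat2E.SpreadScheme.exists_iso_of_ker_eq e (Scheme.IdealSheafData.vanishingIdeal Z).subschemeι (by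
    rw [Scheme.IdealSheafData.ker_subschemeι, ← Scheme.IdealSheafData.map_bot, ← Scheme.nilradical_eq_bot,
      ← Scheme.IdealSheafData.vanishingIdeal_top, Scheme.IdealSheafData.map_vanishingIdeal]
    congr 1
    ext x
    simp [← hZ, Z.isClosed.closure_eq])
  rw [← hj, Category.assoc, MorphismProperty.cancel_left_of_respectsIso @GeometricallyIrreducible]
  exact h

end

end Groth.Agent.Pic13.H557.GeoOpen
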