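import Groth.Agent.Pic13.H557.GeoInt
import Groth.Agent.S0414
import Groth.Agent.S0419
import Groth.Agent.S0434

/-!
# Spreading out geometric integrality

A morphism of finite type to an integral scheme with geometrically integral generic fibre is flat with geometrically
integral fibres over a nonempty affine open subscheme.
-/

set_option autoImplicit false
universe u

open CategoryTheory CategoryTheory.Limits AlgebraicGeometry TopologicalSpace

namespace Groth.Agent.Pic13.H557.GeoSpread

open Groth.Agent.Pic13.H557.GeoInt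

/-- Restriction to a smaller open of the target. -/
theorem restrict_of_le (P : MorphismProperty Scheme.{u}) [P.IsStableUnderBaseChange] {X Y : Scheme.{u}} (f : X ⟶ Y)
    {V W : Y.Opens} (h : V ≤ W) (H : P (f ∣_ W)) : P (f ∣_ V) := by
  have h1 := isPullback_morphismRestrict f V
  have h2 := isPullback_morphismRestrict f W
  have h3 : IsPullback (X.homOfLE (show f ⁻¹ᵁ V ≤ f ⁻¹ᵁ W from fun x hx => h hx)) (f ∣_ V) (f ∣_ W) (Y.homOfLE h) := by
    refine IsPullback.of_right (h₁₂ := (f ⁻¹ᵁ W).ι) (h₂₂ := W.ι) (v₁₃ := f) ?_ ?_ ?_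
    · simpa using h1.flip
    · rw [← cancel_mono W.ι]
      simp
    · exact h2.flip
  exact MorphismProperty.of_isPullback h3 H

/-- Spreading out of a geometrically integral generic fibre; the conclusion holds for all smaller opens. -/
theorem exists_geometricallyIntegral {X S : Scheme.{u}} [IsIntegral S] (f : X ⟶ S) [LocallyOfFiniteType f]
    [QuasiCompact f] (h : GI f) :
    ∃ V : S.Opens, (V : Set S).Nonempty ∧ IsAffineOpen V ∧
      ∀ V' : S.Opens, V' ≤ V → Flat (f ∣_ V') ∧ LocallyOfFinitePresentation (f ∣_ V') ∧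
        GeometricallyIntegral (f ∣_ V') := by
  have h' : GeometricallyIntegral (f.fiberToSpecResidueField (genericPoint S)) := h
  obtain ⟨U, hU, hfl, hfp⟩ := S0414.result f
  obtain ⟨V₁, hV₁, hi⟩ := S0419.result f inferInstance
  obtain ⟨V₂, hV₂, hr⟩ := S0434.result f inferInstance
  have hη : genericPoint S ∈ (U ⊓ V₁ ⊓ V₂ : S.Opens) := by
    have h0 : ∀ W : S.Opens, (W : Set S).Nonempty → genericPoint S ∈ W := fun W hW =>
      ((genericPoint_spec S).mem_open_set_iff W.2).mpr (by simpa using hW)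
    exact ⟨⟨h0 U hU.nonempty, h0 V₁ hV₁⟩, h0 V₂ hV₂⟩
  obtain ⟨_, ⟨V, hV, rfl⟩, hηV, hle⟩ := S.isBasis_affineOpens.exists_subset_of_mem_open hη
    (U ⊓ V₁ ⊓ V₂ : S.Opens).isOpen
  have hle' : V ≤ U ⊓ V₁ ⊓ V₂ := hle
  refine ⟨V, ⟨_, hηV⟩, hV, fun V' hV' => ?_⟩
  have hle₀ : V' ≤ U := (hV'.trans hle').trans (inf_le_left.trans inf_le_left)
  have hle₁ : V' ≤ V₁ := (hV'.trans hle').trans (inf_le_left.trans inf_le_right)
  have hle₂ : V' ≤ V₂ := (hV'.trans hle').trans inf_le_right
  have h1 : GeometricallyIrreducible (f ∣_ V') := restrict_of_le @GeometricallyIrreducible f hle₁ hi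
  have h2 : GeometricallyReduced (f ∣_ V') := restrict_of_le @GeometricallyReduced f hle₂ hr
  exact ⟨restrict_of_le @Flat f hle₀ hfl, restrict_of_le @LocallyOfFinitePresentation f hle₀ hfp,
    GeometricallyIntegral.of_geometricallyReduced_of_geometricallyIrreducible _⟩

end Groth.Agent.Pic13.H557.GeoSpread
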