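import Groth.Agent.Pic13.H17.Patch
import Groth.Agent.Pic13.H557.Cond
import Groth.Agent.Divis.IdealComap
import Groth.Agent.CohqA.IdealMod
import Groth.Agent.CohqA.AffineVanish
import Mathlib.AlgebraicGeometry.Morphisms.Finite
import Mathlib.AlgebraicGeometry.Morphisms.Affine

/-!
# Patching squares of affine and of finite morphisms

`isPatch_of_isAffineHom`: an affine `b : X' ⟶ X` and an ideal `I` of `X`, such that `b` is an isomorphism over the
complement of `V(I)`, `I` maps injectively to `b_* O_X'` and its image is an ideal of `b_* O_X'`, form a patching square.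
`conductor b` is the conductor ideal of a finite morphism and `isPatch_conductor` says that it gives a patching
square if `O_X ⟶ b_* O_X'` is injective.
-/

set_option autoImplicit false
universe u

open CategoryTheory AlgebraicGeometry Opposite

namespace Groth.Agent.Pic13.H557.PatchFin

open Groth.Agent.Pic13.H17.Patch Groth.Agent.Pic13.H557.Cond

variable {X X' : Scheme.{u}} (b : X' ⟶ X)

/-- Higher cohomology of a quasi-coherent module vanishes over affine opens. -/
theorem subsingleton_HHon {X : Scheme.{u}} (M : X.Modules) [Coh.IsQCoh M] {U : X.Opens} (hU : IsAffineOpen U)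
    {j : ℕ} (hj : 0 < j) : Subsingleton (Coh.HHon X M U j) := by
  have : IsAffine (U : Scheme.{u}) := hU
  have h1 : Coh.IsQCoh (M.restrict U.ι) := Scheme.Modules.isQuasicoherent_restrictFunctor U.ι M
  exact Groth.Agent.CohqA.AffineVanish.HH_subsingleton (U : Scheme.{u}) (M.restrict U.ι) j hj

/-- On an affine open the sections of an ideal are its elements. -/
theorem mem_iff {Y : Scheme.{u}} (J : Y.IdealSheafData) (V : Y.affineOpens) (a : Γ(Y, V.1)) :
    Mem J (V := V.1) a ↔ a ∈ J.ideal V := by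
  constructor
  · intro h
    simpa using h V le_rfl
  · intro h W hW
    exact J.ideal_le_comap_ideal (U := W) (V := V) hW h

/-- The ideal of the inverse image ideal over the inverse image of an affine open. -/
theorem ideal_comap_preimage [IsAffineHom b] (I : X.IdealSheafData) (U : X.affineOpens) :
    (I.comap b).ideal ⟨b ⁻¹ᵁ U.1, U.2.preimage b⟩ = (I.ideal U).map (b.app U.1).hom := by
  rw [Divis.IdealComap.ideal_comap I b U ⟨b ⁻¹ᵁ U.1, U.2.preimage b⟩ le_rfl, Scheme.Hom.app_eq_appLE]

/-- If the image of an ideal `I` of `A` is stable under multiplication by `B`, it is the ideal it generates. -/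
theorem mem_map_iff {A B : Type*} [CommRing A] [CommRing B] (φ : A →+* B) (I : Ideal A)
    (h : ∀ c ∈ I, ∀ x : B, ∃ c' ∈ I, φ c' = x * φ c) (y : B) : y ∈ I.map φ ↔ ∃ c ∈ I, φ c = y := by
  constructor
  · intro hy
    refine Submodule.span_induction (p := fun y _ => ∃ c ∈ I, φ c = y) ?_ ⟨0, I.zero_mem, map_zero φ⟩ ?_ ?_ hy
    · rintro _ ⟨c, hc, rfl⟩
      exact ⟨c, hc, rfl⟩
    · rintro _ _ _ _ ⟨c, hc, rfl⟩ ⟨d, hd, rfl⟩
      exact ⟨c + d, I.add_mem hc hd, map_add φ c d⟩
    · rintro x _ _ ⟨c, hc, rfl⟩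
      exact h c hc x
  · rintro ⟨c, hc, rfl⟩
    exact Ideal.mem_map_of_mem φ hc

/-- Patching squares of affine morphisms. -/
theorem isPatch_of_isAffineHom [IsAffineHom b] (I : X.IdealSheafData) (hiso : IsIso (b ∣_ I.support.compl))
    (hinj : ∀ (U : X.affineOpens), ∀ c ∈ I.ideal U, b.app U.1 c = 0 → c = 0)
    (hcond : ∀ (U : X.affineOpens), ∀ c ∈ I.ideal U, ∀ x : Γ(X', b ⁻¹ᵁ U.1),
      ∃ c' ∈ I.ideal U, b.app U.1 c' = x * b.app U.1 c) :
    IsPatch b I where
  iso := hiso
  m1 U a ha := by
    have ha' := (mem_iff (I.comap b) ⟨b ⁻¹ᵁ U.1, U.2.preimage b⟩ a).mp ha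
    rw [ideal_comap_preimage] at ha'
    obtain ⟨c, hc, h⟩ := (mem_map_iff (b.app U.1).hom (I.ideal U) (hcond U) a).mp ha'
    refine ⟨c, ⟨hc, h⟩, fun d hd => ?_⟩
    have h1 : b.app U.1 (d - c) = 0 := by
      have h2 : b.app U.1 c = a := h
      rw [map_sub, hd.2, h2, sub_self]
    exact sub_eq_zero.mp (hinj U _ ((I.ideal U).sub_mem hd.1 hc) h1)
  m2 U j m hj _ := by
    have := CohqA.IdealMod.isQCoh_idealMod ((I.comap b) ^ m)
    exact subsingleton_HHon _ (U.2.preimage b) hj

section Conductor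

variable [IsFinite b]

theorem map_cond_app (U : X.affineOpens) (f : Γ(X, U.1)) :
    (cond (b.app U.1).hom).map (X.presheaf.map (homOfLE <| X.basicOpen_le f).op).hom =
      cond (b.app (X.basicOpen f)).hom := by
  let : Algebra Γ(X, U.1) Γ(X, X.basicOpen f) := (X.presheaf.map (homOfLE <| X.basicOpen_le f).op).hom.toAlgebra
  have h0 : b ⁻¹ᵁ X.basicOpen f ≤ b ⁻¹ᵁ U.1 := b.preimage_mono (X.basicOpen_le f)
  let : Algebra Γ(X', b ⁻¹ᵁ U.1) Γ(X', b ⁻¹ᵁ X.basicOpen f) := (X'.presheaf.map (homOfLE h0).op).hom.toAlgebra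
  have h1 : IsLocalization.Away f Γ(X, X.basicOpen f) := U.2.isLocalization_basicOpen f
  have h2 : IsLocalization.Away ((b.app U.1).hom f) Γ(X', b ⁻¹ᵁ X.basicOpen f) :=
    (U.2.preimage b).isLocalization_of_eq_basicOpen _ (homOfLE h0) (Scheme.preimage_basicOpen b f)
  exact map_cond (A := Γ(X, U.1)) (B := Γ(X', b ⁻¹ᵁ U.1)) (A' := Γ(X, X.basicOpen f))
    (B' := Γ(X', b ⁻¹ᵁ X.basicOpen f)) f (fun a => by
      have h := b.naturality (homOfLE <| X.basicOpen_le f).op
      exact congr($h a)) (b.finite_app U.1 U.2)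

/-- The conductor ideal of a finite morphism `b : X' ⟶ X`: the local sections `c` of `O_X` with
`c · b_* O_X' ⊆ O_X`. -/
def conductor : X.IdealSheafData where
  ideal U := cond (b.app U.1).hom
  map_ideal_basicOpen U f := map_cond_app b U f

theorem conductor_ideal (U : X.affineOpens) : (conductor b).ideal U = cond (b.app U.1).hom := rfl

/-- Over an affine open where the conductor is everything, a finite morphism with `O_X ⟶ b_* O_X'` injective is an
isomorphism. -/
theorem isIso_of_conductor_eq_top (U : X.affineOpens) (hinj : Function.Injective (b.app U.1))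
    (h : (conductor b).ideal U = ⊤) : IsIso (b ∣_ U.1) := by
  rw [isIso_morphismRestrict_iff_isIso_app b U.2, ConcreteCategory.isIso_iff_bijective]
  exact ⟨hinj, surjective_of_cond h⟩

/-- Over an affine open the support of an ideal is empty iff the ideal is everything. -/
theorem ideal_eq_top_iff {Y : Scheme.{u}} (J : Y.IdealSheafData) (U : Y.affineOpens) :
    J.ideal U = ⊤ ↔ U.1 ≤ J.support.compl := by
  constructor
  · intro h x hx hx'
    have h1 := (J.mem_support_iff_of_mem hx).mp hx'
    rw [h, Scheme.mem_zeroLocus_iff] at h1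
    exact h1 1 (Submodule.mem_top) (by simpa using hx)
  · intro h
    have h3 : Y.zeroLocus (U := U.1) (J.ideal U : Set Γ(Y, U.1)) ∩ U.1 = ∅ := by
      rw [← J.coe_support_inter, Set.eq_empty_iff_forall_notMem]
      rintro x ⟨hx, hxU⟩
      exact h hxU hx
    rw [← U.2.fromSpec_image_zeroLocus, Set.image_eq_empty] at h3
    exact PrimeSpectrum.zeroLocus_empty_iff_eq_top.mp h3

/-- An isomorphism over an open `W` may be tested over the affine opens in `W`. -/
theorem isIso_morphismRestrict_of_affine {Y Y' : Scheme.{u}} (f : Y' ⟶ Y) (W : Y.Opens)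
    (h : ∀ U : Y.affineOpens, U.1 ≤ W → IsIso (f ∣_ U.1)) : IsIso (f ∣_ W) := by
  change (MorphismProperty.isomorphisms Scheme.{u}) _
  refine IsZariskiLocalAtTarget.of_forall_exists_morphismRestrict fun x => ?_
  obtain ⟨_, ⟨U, hU, rfl⟩, hxU, hUW⟩ := Y.isBasis_affineOpens.exists_subset_of_mem_open x.2 W.2
  refine ⟨W.ι ⁻¹ᵁ U, hxU, ?_⟩
  have h1 := (MorphismProperty.isomorphisms Scheme.{u}).arrow_mk_iso_iff (morphismRestrictRestrict f W (W.ι ⁻¹ᵁ U))
  rw [h1]
  have h2 : W.ι ''ᵁ (W.ι ⁻¹ᵁ U) = U := by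
    rw [Scheme.Hom.image_preimage_eq_opensRange_inf, Scheme.Opens.opensRange_ι]
    exact inf_eq_right.mpr hUW
  rw [h2]
  exact h ⟨U, hU⟩ hUW

/-- The conductor of a finite morphism with `O_X ⟶ b_* O_X'` injective gives a patching square. -/
theorem isPatch_conductor (hinj : ∀ (U : X.affineOpens), Function.Injective (b.app U.1)) :
    IsPatch b (conductor b) :=
  isPatch_of_isAffineHom b (conductor b)
    (isIso_morphismRestrict_of_affine b _ fun U hU => isIso_of_conductor_eq_top b U (hinj U)
      ((ideal_eq_top_iff _ U).mpr hU))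
    (fun U c _ h => (injective_iff_map_eq_zero _).mp (hinj U) c h)
    fun _ _ hc x => exists_mem_cond hc x

/-- The support of the conductor does not meet the opens over which `b` is an isomorphism. -/
theorem le_support_conductor_compl (W : X.Opens) (h : IsIso (b ∣_ W)) : W ≤ (conductor b).support.compl := by
  intro x hx
  obtain ⟨_, ⟨U, hU, rfl⟩, hxU, hUW⟩ := X.isBasis_affineOpens.exists_subset_of_mem_open hx W.2
  refine (ideal_eq_top_iff (conductor b) ⟨U, hU⟩).mp ?_ hxU
  refine cond_eq_top ?_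
  have h1 : IsIso (b ∣_ U) := by
    have h2 := IsZariskiLocalAtTarget.restrict (P := MorphismProperty.isomorphisms Scheme.{u}) h (W.ι ⁻¹ᵁ U)
    have h1 := (MorphismProperty.isomorphisms Scheme.{u}).arrow_mk_iso_iff
      (morphismRestrictRestrict b W (W.ι ⁻¹ᵁ U))
    rw [h1] at h2
    have h3 : W.ι ''ᵁ (W.ι ⁻¹ᵁ U) = U := by
      rw [Scheme.Hom.image_preimage_eq_opensRange_inf, Scheme.Opens.opensRange_ι]
      exact inf_eq_right.mpr hUW
    rwa [h3] at h2
  rw [isIso_morphismRestrict_iff_isIso_app b hU, ConcreteCategory.isIso_iff_bijective] at h1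
  exact h1.2

end Conductor

end Groth.Agent.Pic13.H557.PatchFin
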