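import Groth.Agent.Pic13.H602.Rig
import Groth.Agent.Grpsch.PicGrp

/-!
# Bilinear families of maps on sections of invertible modules

`Bil G L M N` for `G : Y' ⟶ Y`: compatible `G`-semibilinear maps `Γ(L, U) × Γ(M, U) → Γ(N, G⁻¹ U)` taking pairs of
generators to generators.  For `L`, `M` invertible this is an isomorphism `G^*(L ⊗ M) ≅ N`.
-/

set_option autoImplicit false
set_option backward.isDefEq.respectTransparency false

universe u v

open CategoryTheory CategoryTheory.Limits AlgebraicGeometry TopologicalSpace Opposite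

namespace Groth.Agent.Pic13.H557.RigBil

open Groth.Agent.Fdesc Groth.Agent.Fdesc.LocGen Groth.Agent.Picfga.LineHom
  Groth.Agent.Picfga.LineDescent Groth.Agent.Picfga.LineFam Groth.Agent.Picfga.HilbPull

variable {Y Y' Y'' : Scheme.{u}}

/-- Semibilinear families taking pairs of generators to generators. -/
structure Bil (G : Y' ⟶ Y) (L M : Y.Modules) (N : Y'.Modules) where
  /-- the maps -/
  map : ∀ {U : Y.Opens}, Γ(L, U) → Γ(M, U) → Γ(N, G ⁻¹ᵁ U)
  smul : ∀ {U : Y.Opens} (a b : Γ(Y, U)) (s : Γ(L, U)) (t : Γ(M, U)),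
    map (a • s) (b • t) = G.app U (a * b) • map s t
  res : ∀ {U V : Y.Opens} (h : V ≤ U) (s : Γ(L, U)) (t : Γ(M, U)),
    map (LocGen.res L h s) (LocGen.res M h t) = LocGen.res N (G.preimage_mono h) (map s t)
  gen : ∀ {U : Y.Opens} {e : Γ(L, U)} {e' : Γ(M, U)}, IsGen e → IsGen e' → IsGen (map e e')

/-- Common local generators of two invertible modules. -/
theorem exists_gens₂ {L M : Y.Modules} (hL : PicF.IsInvertible L) (hM : PicF.IsInvertible M) :
    ∃ (U : Y → Y.Opens) (e : ∀ y, Γ(L, U y)) (e' : ∀ y, Γ(M, U y)),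
      ⨆ y, U y = ⊤ ∧ (∀ y, IsGen (e y)) ∧ ∀ y, IsGen (e' y) := by
  rw [isInvertible_iff] at hL hM
  choose U e hx he using hL
  choose U' e' hx' he' using hM
  refine ⟨fun y ↦ U y ⊓ U' y, fun y ↦ LocGen.res L inf_le_left (e y), fun y ↦ LocGen.res M inf_le_right (e' y),
    ?_, fun y ↦ (he y).res _, fun y ↦ (he' y).res _⟩
  exact top_le_iff.1 fun x _ ↦ Opens.mem_iSup.2 ⟨x, hx x, hx' x⟩

/-- Common local generators of three invertible modules. -/
theorem exists_gens₃ {L M N : Y.Modules} (hL : PicF.IsInvertible L) (hM : PicF.IsInvertible M)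
    (hN : PicF.IsInvertible N) :
    ∃ (U : Y → Y.Opens) (e : ∀ y, Γ(L, U y)) (e' : ∀ y, Γ(M, U y)) (e'' : ∀ y, Γ(N, U y)),
      ⨆ y, U y = ⊤ ∧ (∀ y, IsGen (e y)) ∧ (∀ y, IsGen (e' y)) ∧ ∀ y, IsGen (e'' y) := by
  rw [isInvertible_iff] at hL hM hN
  choose U e hx he using hL
  choose U' e' hx' he' using hM
  choose U'' e'' hx'' he'' using hN
  refine ⟨fun y ↦ U y ⊓ U' y ⊓ U'' y, fun y ↦ LocGen.res L (inf_le_left.trans inf_le_left) (e y),
    fun y ↦ LocGen.res M (inf_le_left.trans inf_le_right) (e' y), fun y ↦ LocGen.res N inf_le_right (e'' y),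
    ?_, fun y ↦ (he y).res _, fun y ↦ (he' y).res _, fun y ↦ (he'' y).res _⟩
  exact top_le_iff.1 fun x _ ↦ Opens.mem_iSup.2 ⟨x, ⟨hx x, hx' x⟩, hx'' x⟩

namespace Bil

variable {G : Y' ⟶ Y} {G' : Y'' ⟶ Y'} {L M : Y.Modules} {L' M' N : Y'.Modules} {N' : Y''.Modules}

theorem smul_left (B : Bil G L M N) {U : Y.Opens} (a : Γ(Y, U)) (s : Γ(L, U)) (t : Γ(M, U)) :
    B.map (a • s) t = G.app U a • B.map s t := by
  have := B.smul a 1 s t
  rwa [one_smul, mul_one] at this

theorem smul_right (B : Bil G L M N) {U : Y.Opens} (a : Γ(Y, U)) (s : Γ(L, U)) (t : Γ(M, U)) :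
    B.map s (a • t) = G.app U a • B.map s t := by
  have := B.smul 1 a s t
  rwa [one_smul, one_mul] at this

/-- Composition with a semilinear family. -/
noncomputable def comp (B : Bil G L M N) (F : Fam G' N N') : Bil (G' ≫ G) L M N' where
  map s t := F.map (B.map s t)
  smul a b s t := by rw [B.smul, F.smul]; rfl
  res h s t := by rw [B.res, F.res]; rfl
  gen he he' := F.gen (B.gen he he')

/-- Precomposition with semilinear families. -/
noncomputable def pre (F : Fam G L L') (F' : Fam G M M') (B : Bil G' L' M' N') : Bil (G' ≫ G) L M N' where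
  map s t := B.map (F.map s) (F'.map t)
  smul a b s t := by
    rw [F.smul, F'.smul, B.smul, ← map_mul]; rfl
  res h s t := by rw [F.res, F'.res, B.res]; rfl
  gen he he' := B.gen (F.gen he) (F'.gen he')

/-- Exchange of the factors. -/
noncomputable def swap (B : Bil G L M N) : Bil G M L N where
  map s t := B.map t s
  smul a b s t := by rw [B.smul, mul_comm]
  res h s t := B.res h t s
  gen he he' := B.gen he' he

/-- The tensor product. -/
noncomputable def tens (L M : Y.Modules) : Bil (𝟙 Y) L M (CohB1.tensorMod L M) where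
  map s t := tmul s t
  smul {U} a b s t := by
    rw [smul_tmul, tmul_smul, smul_smul]; rfl
  res h s t := (res_tmul h s t).symm
  gen he he' := he.tmul he'

/-- Multiplication of functions. -/
noncomputable def mulF (Y : Scheme.{u}) :
    Bil (𝟙 Y) (Coh.structureModule Y) (Coh.structureModule Y) (Coh.structureModule Y) where
  map s t := ofFun (ofFun.symm s * ofFun.symm t)
  smul {U} a b s t := by
    change (a * ofFun.symm s) * (b * ofFun.symm t) = (a * b) * (ofFun.symm s * ofFun.symm t)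
    ring
  res {U V} h s t := (map_mul (ores h) (ofFun.symm s) (ofFun.symm t)).symm
  gen {U e e'} he he' := by
    obtain ⟨a, ha, hae⟩ := (isGen_one U).exists_unit he
    obtain ⟨b, hb, hbe⟩ := (isGen_one U).exists_unit he'
    have h1 : ofFun.symm e = a := by rw [hae, ← ofFun_eq_smul, AddEquiv.symm_apply_apply]
    have h2 : ofFun.symm e' = b := by rw [hbe, ← ofFun_eq_smul, AddEquiv.symm_apply_apply]
    rw [h1, h2, ofFun_eq_smul]
    exact (isGen_one U).unit_smul (ha.mul hb)

theorem mulF_map {U : Y.Opens} (s t : Γ(Coh.structureModule Y, U)) :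
    (mulF Y).map s t = ofFun (ofFun.symm s * ofFun.symm t) := rfl

/-- Multiplication of sections by functions. -/
noncomputable def smulF (L : Y.Modules) : Bil (𝟙 Y) (Coh.structureModule Y) L L where
  map s t := ofFun.symm s • t
  smul {U} a b s t := by
    change (a * ofFun.symm s) • (b • t) = (a * b) • (ofFun.symm s • t)
    rw [smul_smul, smul_smul]
    congr 1
    ring
  res {U V} h s t := (res_smul L h (ofFun.symm s) t).symm
  gen {U e e'} he he' := by
    obtain ⟨a, ha, hae⟩ := (isGen_one U).exists_unit he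
    have h1 : ofFun.symm e = a := by rw [hae, ← ofFun_eq_smul, AddEquiv.symm_apply_apply]
    rw [h1]
    exact he'.unit_smul ha

theorem smulF_map {L : Y.Modules} {U : Y.Opens} (s : Γ(Coh.structureModule Y, U)) (t : Γ(L, U)) :
    (smulF L).map s t = ofFun.symm s • t := rfl

/-- A bilinear family of invertible modules is universal. -/
theorem exists_lift {N₀ : Y.Modules} (hL : PicF.IsInvertible L) (hM : PicF.IsInvertible M) (B : Bil (𝟙 Y) L M N₀)
    (B' : Bil G L M N) :
    ∃ F : Fam G N₀ N, ∀ {U : Y.Opens} (s : Γ(L, U)) (t : Γ(M, U)), F.map (B.map s t) = B'.map s t := by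
  obtain ⟨U, e, e', hU, he, he'⟩ := exists_gens₂ hL hM
  obtain ⟨F, hF⟩ := Fam.exists_of_gens (G := G) (L := N₀) (L' := N) hU (e := fun i ↦ B.map (e i) (e' i))
    (fun i ↦ B.gen (he i) (he' i)) (fun i ↦ B'.map (e i) (e' i)) (fun i ↦ B'.gen (he i) (he' i)) (fun i j ↦ by
      obtain ⟨a, ha⟩ := exists_smul (he j) (inf_le_right : U i ⊓ U j ≤ U j)
        (LocGen.res L (inf_le_left : U i ⊓ U j ≤ U i) (e i))
      obtain ⟨b, hb⟩ := exists_smul (he' j) (inf_le_right : U i ⊓ U j ≤ U j)
        (LocGen.res M (inf_le_left : U i ⊓ U j ≤ U i) (e' i))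
      refine ⟨a * b, ?_, ?_⟩
      · refine (B.res inf_le_left (e i) (e' i)).symm.trans ?_
        rw [← ha, ← hb, B.smul, B.res]
        rfl
      · refine (B'.res inf_le_left (e i) (e' i)).symm.trans ?_
        rw [← ha, ← hb, B'.smul, B'.res])
  refine ⟨F, fun {V} s t ↦ ?_⟩
  refine res_ext N (V := G ⁻¹ᵁ V) (fun i ↦ G ⁻¹ᵁ (V ⊓ U i)) (fun i ↦ G.preimage_mono inf_le_left) ?_ fun i ↦ ?_
  · rw [← Scheme.Hom.preimage_iSup]
    exact G.preimage_mono (cover_inf hU V)
  · obtain ⟨a, ha⟩ := exists_smul (he i) (inf_le_right : V ⊓ U i ≤ U i)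
      (LocGen.res L (inf_le_left : V ⊓ U i ≤ V) s)
    obtain ⟨b, hb⟩ := exists_smul (he' i) (inf_le_right : V ⊓ U i ≤ U i)
      (LocGen.res M (inf_le_left : V ⊓ U i ≤ V) t)
    have h1 : LocGen.res N₀ (inf_le_left : V ⊓ U i ≤ V) (B.map s t) =
        (a * b) • LocGen.res N₀ (inf_le_right : V ⊓ U i ≤ U i) (B.map (e i) (e' i)) := by
      refine (B.res inf_le_left s t).symm.trans ?_
      rw [← ha, ← hb, B.smul, B.res]
      rfl
    rw [← F.res inf_le_left, h1, F.smul, F.res, hF, ← B'.res inf_le_left, ← ha, ← hb, B'.smul, B'.res]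

/-- Two semilinear families which agree on products agree. -/
theorem ext_of_bil {N₀ : Y.Modules} (hL : PicF.IsInvertible L) (hM : PicF.IsInvertible M) (B : Bil (𝟙 Y) L M N₀)
    {F F' : Fam G N₀ N}
    (h : ∀ {U : Y.Opens} (s : Γ(L, U)) (t : Γ(M, U)), F.map (B.map s t) = F'.map (B.map s t)) : F = F' := by
  obtain ⟨U, e, e', hU, he, he'⟩ := exists_gens₂ hL hM
  exact Fam.ext_of_gens hU (e := fun i ↦ B.map (e i) (e' i)) (fun i ↦ B.gen (he i) (he' i)) fun i ↦ h _ _

end Bil

end Groth.Agent.Pic13.H557.RigBil
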