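import Groth.Agent.Pic13.H557.RigGrp
import Groth.Agent.Pic13.H955.RepDef
import Mathlib.CategoryTheory.Monoidal.Cartesian.CommGrp_
import Mathlib.AlgebraicGeometry.Pullbacks

/-!
# The group scheme representing the rigidified Picard functor

* `rigG f w : (Over S)ᵒᵖ ⥤ CommGrpCat`, `T ↦ RCl (w_T)`;
* `RRep f w`: a commutative group scheme locally of finite type with natural isomorphisms of groups
  `(T ⟶ P) ≃* RCl (w_T)`; `exists_rrep : RepW f w → Nonempty (RRep f w)`.
-/

set_option autoImplicit false
set_option backward.isDefEq.respectTransparency false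

universe w u

open CategoryTheory CategoryTheory.Limits AlgebraicGeometry TopologicalSpace Opposite
open MonoidalCategory CartesianMonoidalCategory
open scoped CategoryTheory.MonObj

namespace Groth.Agent.Pic13.H557.RigFun

open Groth.Agent.Pic13.H602.Rig Groth.Agent.Pic13.H557.RigGrp Groth.Agent.Pic13.H955.FinDesc
  Groth.Agent.Pic13.H955.RepDef Groth.Agent.Picfga.HilbPull

variable {X S W : Scheme.{u}} (f : X ⟶ S) (w : W ⟶ X)

/-- The rigidified Picard functor with values in commutative groups. -/
noncomputable def rigG : (Over S)ᵒᵖ ⥤ CommGrpCat.{u + 1} where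
  obj T := CommGrpCat.of (RCl (wT f w T.unop))
  map g := CommGrpCat.ofHom (pullHom (wT_XTmap f w g.unop))
  map_id T := by
    ext c
    exact (RCl.pull_congr _ _ (XTmap_id f T.unop) (XTmap_id (w ≫ f) T.unop) c).trans
      (RCl.pull_id c)
  map_comp {T T' T''} g h := by
    ext c
    exact (RCl.pull_congr _ (comp_w (wT_XTmap f w g.unop) (wT_XTmap f w h.unop))
      (XTmap_comp f h.unop g.unop) (XTmap_comp (w ≫ f) h.unop g.unop) c).trans
      (RCl.pull_pull _ _ c).symm

/-- Pull back of classes along `g : T' ⟶ T`. -/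
noncomputable abbrev pl {T T' : Over S} (g : T' ⟶ T) : RCl (wT f w T) →* RCl (wT f w T') :=
  pullHom (wT_XTmap f w g)

theorem pl_comp {T T' T'' : Over S} (g : T' ⟶ T) (h : T'' ⟶ T') (c : RCl (wT f w T)) :
    pl f w (h ≫ g) c = pl f w h (pl f w g c) :=
  (RCl.pull_congr _ (comp_w (wT_XTmap f w g) (wT_XTmap f w h))
      (XTmap_comp f h g) (XTmap_comp (w ≫ f) h g) c).trans (RCl.pull_pull _ _ c).symm

theorem pl_id {T : Over S} (c : RCl (wT f w T)) : pl f w (𝟙 T) c = c :=
  (RCl.pull_congr _ _ (XTmap_id f T) (XTmap_id (w ≫ f) T) c).trans (RCl.pull_id c)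

/-- A commutative group scheme locally of finite type representing the rigidified Picard functor. -/
structure RRep where
  /-- the scheme -/
  P : Over S
  /-- the group structure -/
  [grp : GrpObj P]
  [comm : IsCommMonObj P]
  /-- the bijection on points -/
  e : ∀ T : Over S, (T ⟶ P) ≃* RCl (wT f w T)
  nat : ∀ {T T' : Over S} (g : T' ⟶ T) (a : T ⟶ P), e T' (g ≫ a) = pl f w g (e T a)
  lft : LocallyOfFiniteType P.hom

attribute [instance] RRep.grp RRep.comm RRep.lft

variable {f w}

/-- A representing object of a functor of commutative groups is a commutative group object. -/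
theorem exists_commGrpObj {C : Type*} [Category C] [CartesianMonoidalCategory C] [BraidedCategory C] (X : C)
    (F : Cᵒᵖ ⥤ CommGrpCat.{w}) (α : (F ⋙ forget _).RepresentableBy X) :
    ∃ (_ : GrpObj X) (_ : IsCommMonObj X), ∀ (T : C) (a b : T ⟶ X),
      α.homEquiv (a * b) = (α.homEquiv a * α.homEquiv b : F.obj (op T)) := by
  let G : CommGrpObj X := CommGrpObj.ofRepresentableBy X F α
  let β : (((F ⋙ forget₂ CommGrpCat GrpCat) ⋙ forget₂ GrpCat MonCat) ⋙ forget _).RepresentableBy X := α
  refine ⟨G.toGrpObj, G.toIsCommMonObj, fun T a b => ?_⟩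
  change β.homEquiv' (lift a b ≫ β.homEquiv'.symm (β.homEquiv' (fst X X) * β.homEquiv' (snd X X))) =
    β.homEquiv' a * β.homEquiv' b
  simp only [β.homEquiv'_comp, Equiv.apply_symm_apply, map_mul]
  simp only [← β.homEquiv'_comp]
  simp

theorem exists_rrep_of_isUniv {P : Over S} {ξ : (rigF f w).obj (op P)} (h : IsUniv (rigF f w) P ξ)
    (hP : LocallyOfFiniteType P.hom) : ∃ R : RRep f w, R.P = P := by
  let e₀ : ∀ T : Over S, (T ⟶ P) ≃ RCl (wT f w T) := fun T =>
    Equiv.ofBijective (fun g => pl f w g ξ)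
      ⟨fun g g' hg => (h T (pl f w g' ξ)).unique hg rfl, fun x => (h T x).exists⟩
  let R : (rigG f w ⋙ forget _).RepresentableBy P :=
    { homEquiv := fun {T} => e₀ T
      homEquiv_comp := fun {T T'} g a => pl_comp f w a g ξ }
  obtain ⟨G, hG, hm⟩ := exists_commGrpObj P (rigG f w) R
  exact ⟨{ P := P, grp := G, comm := hG
           e := fun T => { e₀ T with map_mul' := fun a b => hm T a b }
           nat := fun {T T'} g a => pl_comp f w a g ξ
           lft := hP }, rfl⟩

theorem exists_rrep (h : RepW f w) : Nonempty (RRep f w) := by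
  obtain ⟨P, ξ, hξ, hP⟩ := h
  obtain ⟨R, -⟩ := exists_rrep_of_isUniv hξ hP
  exact ⟨R⟩

end Groth.Agent.Pic13.H557.RigFun
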