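import Groth.Agent.Pic13.H557.RigBil

/-!
# Products of rigidified invertible modules

`IsMul R₁ R₂ R₃`: the rigidified module `R₃` is the product of `R₁` and `R₂`.  Existence, functoriality with respect to
arrows, unit, commutativity, associativity, division.
-/

set_option autoImplicit false
set_option backward.isDefEq.respectTransparency false

universe u v

open CategoryTheory CategoryTheory.Limits AlgebraicGeometry TopologicalSpace Opposite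

namespace Groth.Agent.Pic13.H557.RigMul

open Groth.Agent.Fdesc Groth.Agent.Fdesc.LocGen Groth.Agent.Picfga.LineHom
  Groth.Agent.Picfga.LineDescent Groth.Agent.Picfga.LineFam Groth.Agent.Picfga.HilbPull
  Groth.Agent.Pic13.H602.Rig Groth.Agent.Pic13.H557.RigBil

variable {W W' Y Y' : Scheme.{u}} {σ : W ⟶ Y} {σ' : W' ⟶ Y'} {G : Y' ⟶ Y} {g : W' ⟶ W}

/-! ### Values -/

/-- The value of the rigidification. -/
noncomputable def v (R : RB σ) {U : Y.Opens} (s : Γ(R.L, U)) : Γ(W, σ ⁻¹ᵁ U) := ofFun.symm (R.ρ.map s)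

theorem ofFun_v (R : RB σ) {U : Y.Opens} (s : Γ(R.L, U)) : ofFun (v R s) = R.ρ.map s :=
  AddEquiv.apply_symm_apply _ _

theorem v_smul (R : RB σ) {U : Y.Opens} (a : Γ(Y, U)) (s : Γ(R.L, U)) : v R (a • s) = σ.app U a * v R s := by
  rw [v, R.ρ.smul]
  rfl

theorem v_res (R : RB σ) {U V : Y.Opens} (h : V ≤ U) (s : Γ(R.L, U)) :
    v R (LocGen.res R.L h s) = ores (σ.preimage_mono h) (v R s) := by
  rw [v, R.ρ.res]
  rfl

theorem isUnit_of_isGen {U : W.Opens} {e : Γ(Coh.structureModule W, U)} (he : IsGen e) : IsUnit (ofFun.symm e) := by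
  obtain ⟨a, ha, hae⟩ := (isGen_one U).exists_unit he
  rw [hae, ← ofFun_eq_smul, AddEquiv.symm_apply_apply]
  exact ha

theorem isGen_ofFun {U : W.Opens} {a : Γ(W, U)} (ha : IsUnit a) : IsGen (ofFun a) := by
  rw [ofFun_eq_smul]
  exact (isGen_one U).unit_smul ha

theorem isUnit_v (R : RB σ) {U : Y.Opens} {e : Γ(R.L, U)} (he : IsGen e) : IsUnit (v R e) :=
  isUnit_of_isGen (R.ρ.gen he)

/-- The equality characterizing arrows, on one section. -/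
theorem isArr_iff_v (w : σ' ≫ G = g ≫ σ) {R : RB σ} {R' : RB σ'} (θ : Fam G R.L R'.L) :
    IsArr w R.ρ R'.ρ θ ↔ ∀ {U : Y.Opens} (s : Γ(R.L, U)),
      ores (le_of_eq (by
        change g ⁻¹ᵁ (σ ⁻¹ᵁ U) = (σ' ≫ G) ⁻¹ᵁ U
        rw [w]; rfl)) (v R' (θ.map s)) = g.app _ (v R s) := by
  constructor
  · intro h U s
    have := congrArg (fun F : Fam (g ≫ σ) R.L (Coh.structureModule W') ↦ ofFun.symm (F.map s)) h
    exact this
  · intro h
    refine Fam.ext' fun U s ↦ ?_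
    exact congrArg ofFun (h s)

theorem v_eq {w : σ' ≫ G = g ≫ σ} {R : RB σ} {R' : RB σ'} (A : Arr w R R') {U : Y.Opens} (s : Γ(R.L, U)) :
    ores (le_of_eq (by
        change g ⁻¹ᵁ (σ ⁻¹ᵁ U) = (σ' ≫ G) ⁻¹ᵁ U
        rw [w]; rfl)) (v R' (A.θ.map s)) = g.app _ (v R s) :=
  (isArr_iff_v w A.θ).1 A.isArr s

/-- It suffices to check the condition on local generators. -/
theorem isArr_of_gens (w : σ' ≫ G = g ≫ σ) {R : RB σ} {R' : RB σ'} (θ : Fam G R.L R'.L) {ι : Type v}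
    {U : ι → Y.Opens} (hU : ⨆ i, U i = ⊤) {e : ∀ i, Γ(R.L, U i)} (he : ∀ i, IsGen (e i))
    (h : ∀ i, ores (le_of_eq (by
        change g ⁻¹ᵁ (σ ⁻¹ᵁ (U i)) = (σ' ≫ G) ⁻¹ᵁ (U i)
        rw [w]; rfl)) (v R' (θ.map (e i))) = g.app _ (v R (e i))) : IsArr w R.ρ R'.ρ θ :=
  Fam.ext_of_gens hU he fun i ↦ congrArg ofFun (h i)

/-! ### Pairings over the identity -/

/-- Bilinear families over the identity. -/
structure Pr (L M N : Y.Modules) where
  /-- the maps -/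
  map : ∀ {U : Y.Opens}, Γ(L, U) → Γ(M, U) → Γ(N, U)
  smul : ∀ {U : Y.Opens} (a b : Γ(Y, U)) (s : Γ(L, U)) (t : Γ(M, U)), map (a • s) (b • t) = (a * b) • map s t
  res : ∀ {U V : Y.Opens} (h : V ≤ U) (s : Γ(L, U)) (t : Γ(M, U)),
    map (LocGen.res L h s) (LocGen.res M h t) = LocGen.res N h (map s t)
  gen : ∀ {U : Y.Opens} {e : Γ(L, U)} {e' : Γ(M, U)}, IsGen e → IsGen e' → IsGen (map e e')

/-- As a bilinear family. -/
noncomputable def Pr.toBil {L M N : Y.Modules} (B : Pr L M N) : Bil (𝟙 Y) L M N where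
  map s t := B.map s t
  smul a b s t := B.smul a b s t
  res h s t := B.res h s t
  gen he he' := B.gen he he'

/-- From a bilinear family. -/
noncomputable def Pr.ofBil {L M N : Y.Modules} (B : Bil (𝟙 Y) L M N) : Pr L M N where
  map s t := B.map s t
  smul a b s t := B.smul a b s t
  res h s t := B.res h s t
  gen he he' := B.gen he he'

theorem Pr.exists_lift {L M N₀ : Y.Modules} {N : Y'.Modules} (hL : PicF.IsInvertible L) (hM : PicF.IsInvertible M)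
    (B : Pr L M N₀) (B' : Bil G L M N) :
    ∃ F : Fam G N₀ N, ∀ {U : Y.Opens} (s : Γ(L, U)) (t : Γ(M, U)), F.map (B.map s t) = B'.map s t :=
  Bil.exists_lift hL hM B.toBil B'

/-! ### The relation -/

/-- `R₃` is the product of `R₁` and `R₂`. -/
def IsMul (R₁ R₂ R₃ : RB σ) : Prop :=
  ∃ B : Pr R₁.L R₂.L R₃.L, ∀ {U : Y.Opens} (s : Γ(R₁.L, U)) (t : Γ(R₂.L, U)),
    v R₃ (B.map s t) = v R₁ s * v R₂ t

/-- The product of the rigidifications. -/
noncomputable def mulρ (R₁ R₂ : RB σ) : Bil σ R₁.L R₂.L (Coh.structureModule W) where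
  map s t := ofFun (v R₁ s * v R₂ t)
  smul {U} a b s t := by
    have h1 : v R₁ (a • s) * v R₂ (b • t) = σ.app U (a * b) * (v R₁ s * v R₂ t) := by
      rw [v_smul, v_smul, map_mul]
      ring
    exact congrArg ofFun h1
  res h s t := by
    rw [v_res, v_res, ← map_mul]
    rfl
  gen he he' := isGen_ofFun ((isUnit_v R₁ he).mul (isUnit_v R₂ he'))

theorem exists_mul (R₁ R₂ : RB σ) : ∃ R₃ : RB σ, IsMul R₁ R₂ R₃ := by
  obtain ⟨ρ, hρ⟩ := Pr.exists_lift R₁.inv R₂.inv (Pr.ofBil (Bil.tens R₁.L R₂.L)) (mulρ R₁ R₂)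
  refine ⟨⟨_, Groth.Agent.Fdesc.LocGen.isInvertible_tensorMod R₁.inv R₂.inv, ρ⟩, Pr.ofBil (Bil.tens R₁.L R₂.L),
    fun s t ↦ ?_⟩
  change ofFun.symm (ρ.map _) = _
  rw [hρ]
  exact AddEquiv.symm_apply_apply _ _

/-- Products are compatible with arrows. -/
theorem IsMul.arr {w : σ' ≫ G = g ≫ σ} {R₁ R₂ R₃ : RB σ} {R₁' R₂' R₃' : RB σ'} (h : IsMul R₁ R₂ R₃)
    (h' : IsMul R₁' R₂' R₃') (A₁ : Nonempty (Arr w R₁ R₁')) (A₂ : Nonempty (Arr w R₂ R₂')) :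
    Nonempty (Arr w R₃ R₃') := by
  obtain ⟨B, hB⟩ := h
  obtain ⟨B', hB'⟩ := h'
  obtain ⟨A₁⟩ := A₁
  obtain ⟨A₂⟩ := A₂
  let B'' : Bil G R₁.L R₂.L R₃'.L :=
    { map := fun s t ↦ B'.map (A₁.θ.map s) (A₂.θ.map t)
      smul := fun a b s t ↦ by
        rw [A₁.θ.smul, A₂.θ.smul, B'.smul, ← map_mul]
      res := fun h s t ↦ by rw [A₁.θ.res, A₂.θ.res, B'.res]
      gen := fun he he' ↦ B'.gen (A₁.θ.gen he) (A₂.θ.gen he') }
  obtain ⟨θ, hθ⟩ := Pr.exists_lift R₁.inv R₂.inv B B''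
  obtain ⟨U, e, e', hU, he, he'⟩ := exists_gens₂ R₁.inv R₂.inv
  refine ⟨⟨θ, isArr_of_gens w θ hU (e := fun i ↦ B.map (e i) (e' i)) (fun i ↦ B.gen (he i) (he' i)) fun i ↦ ?_⟩⟩
  rw [hθ]
  change ores _ (v R₃' (B'.map (A₁.θ.map (e i)) (A₂.θ.map (e' i)))) = _
  rw [hB', map_mul]
  refine (congrArg₂ (· * ·) (v_eq A₁ (e i)) (v_eq A₂ (e' i))).trans ?_
  rw [← map_mul, hB]

theorem IsMul.symm {R₁ R₂ R₃ : RB σ} (h : IsMul R₁ R₂ R₃) : IsMul R₂ R₁ R₃ := by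
  obtain ⟨B, hB⟩ := h
  refine ⟨{ map := fun s t ↦ B.map t s
            smul := fun a b s t ↦ by rw [B.smul, mul_comm]
            res := fun h s t ↦ B.res h t s
            gen := fun he he' ↦ B.gen he' he }, fun s t ↦ ?_⟩
  change v R₃ (B.map t s) = _
  rw [hB, mul_comm]

theorem IsMul.rel {R₁ R₂ R₃ R₁' R₂' R₃' : RB σ} (h : IsMul R₁ R₂ R₃) (h' : IsMul R₁' R₂' R₃') (h₁ : Rel R₁ R₁')
    (h₂ : Rel R₂ R₂') : Rel R₃ R₃' := IsMul.arr h h' h₁ h₂

theorem IsMul.of_rel {R₁ R₂ R₃ R₃' : RB σ} (h : IsMul R₁ R₂ R₃) (h₃ : Rel R₃ R₃') : IsMul R₁ R₂ R₃' := by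
  obtain ⟨B, hB⟩ := h
  obtain ⟨A⟩ := h₃
  refine ⟨{ map := fun s t ↦ A.θ.map (B.map s t)
            smul := fun a b s t ↦ by rw [B.smul]; exact A.θ.smul _ _
            res := fun h s t ↦ by rw [B.res]; exact A.θ.res _ _
            gen := fun he he' ↦ A.θ.gen (B.gen he he') }, fun s t ↦ ?_⟩
  have h1 := v_eq A (B.map s t)
  rw [hB] at h1
  refine Eq.trans ?_ (h1.trans ?_)
  · exact (ores_refl _).symm
  · rfl

/-! ### The unit -/

/-- The structure sheaf with its canonical rigidification multiplied by a unit. -/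
noncomputable def unitRB (σ : W ⟶ Y) (u : Γ(W, ⊤)ˣ) : RB σ where
  L := Coh.structureModule Y
  inv := isInvertible_structureModule
  ρ := Fam.smulUnit u.isUnit (Fam.can σ)

theorem v_unitRB (u : Γ(W, ⊤)ˣ) {U : Y.Opens} (s : Γ(Coh.structureModule Y, U)) :
    v (unitRB σ u) s = ores le_top u.1 * σ.app U (ofFun.symm s) := rfl

theorem isMul_unitRB (u u' : Γ(W, ⊤)ˣ) : IsMul (unitRB σ u) (unitRB σ u') (unitRB σ (u * u')) := by
  refine ⟨Pr.ofBil (Bil.mulF Y), fun {U} s t ↦ ?_⟩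
  change ores le_top (u * u').1 * σ.app U (ofFun.symm (ofFun (ofFun.symm s * ofFun.symm t))) =
    (ores le_top u.1 * σ.app U (ofFun.symm s)) * (ores le_top u'.1 * σ.app U (ofFun.symm t))
  rw [AddEquiv.symm_apply_apply, map_mul, Units.val_mul, map_mul]
  ring

theorem isMul_one (R : RB σ) : IsMul (unitRB σ 1) R R := by
  refine ⟨Pr.ofBil (Bil.smulF R.L), fun {U} s t ↦ ?_⟩
  change v R ((ofFun.symm s : Γ(Y, U)) • t) = (ores le_top (1 : Γ(W, ⊤)) * σ.app U (ofFun.symm s)) * v R t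
  rw [v_smul, map_one, one_mul]

/-! ### Associativity -/

theorem IsMul.assoc {R₁ R₂ R₃ R₁₂ R₂₃ R R' : RB σ} (h₁₂ : IsMul R₁ R₂ R₁₂) (h : IsMul R₁₂ R₃ R)
    (h₂₃ : IsMul R₂ R₃ R₂₃) (h' : IsMul R₁ R₂₃ R') : Rel R R' := by
  obtain ⟨B₁₂, hB₁₂⟩ := h₁₂
  obtain ⟨B, hB⟩ := h
  obtain ⟨B₂₃, hB₂₃⟩ := h₂₃
  obtain ⟨B', hB'⟩ := h'
  obtain ⟨U, e₁, e₂, e₃, hU, he₁, he₂, he₃⟩ := exists_gens₃ R₁.inv R₂.inv R₃.inv
  have key : ∀ {V : Y.Opens} (a b c : Γ(Y, V)) (s : Γ(R₁.L, V)) (t : Γ(R₂.L, V)) (r : Γ(R₃.L, V)),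
      B.map (B₁₂.map (a • s) (b • t)) (c • r) = (a * b * c) • B.map (B₁₂.map s t) r := by
    intro V a b c s t r
    rw [B₁₂.smul]
    exact B.smul (a * b) c _ _
  have key' : ∀ {V : Y.Opens} (a b c : Γ(Y, V)) (s : Γ(R₁.L, V)) (t : Γ(R₂.L, V)) (r : Γ(R₃.L, V)),
      B'.map (a • s) (B₂₃.map (b • t) (c • r)) = (a * b * c) • B'.map s (B₂₃.map t r) := by
    intro V a b c s t r
    rw [B₂₃.smul, mul_assoc]
    exact B'.smul a (b * c) _ _
  have kr : ∀ {V V' : Y.Opens} (h : V' ≤ V) (s : Γ(R₁.L, V)) (t : Γ(R₂.L, V)) (r : Γ(R₃.L, V)),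
      LocGen.res R.L h (B.map (B₁₂.map s t) r) =
        B.map (B₁₂.map (LocGen.res R₁.L h s) (LocGen.res R₂.L h t)) (LocGen.res R₃.L h r) := by
    intro V V' h s t r
    rw [B₁₂.res]
    exact (B.res h _ _).symm
  have kr' : ∀ {V V' : Y.Opens} (h : V' ≤ V) (s : Γ(R₁.L, V)) (t : Γ(R₂.L, V)) (r : Γ(R₃.L, V)),
      LocGen.res R'.L h (B'.map s (B₂₃.map t r)) =
        B'.map (LocGen.res R₁.L h s) (B₂₃.map (LocGen.res R₂.L h t) (LocGen.res R₃.L h r)) := by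
    intro V V' h s t r
    rw [B₂₃.res]
    exact (B'.res h _ _).symm
  obtain ⟨F, hF⟩ := Fam.exists_of_gens (G := 𝟙 Y) (L := R.L) (L' := R'.L) hU
    (e := fun i ↦ B.map (B₁₂.map (e₁ i) (e₂ i)) (e₃ i)) (fun i ↦ B.gen (B₁₂.gen (he₁ i) (he₂ i)) (he₃ i))
    (fun i ↦ B'.map (e₁ i) (B₂₃.map (e₂ i) (e₃ i))) (fun i ↦ B'.gen (he₁ i) (B₂₃.gen (he₂ i) (he₃ i)))
    (fun i j ↦ by
      obtain ⟨a, ha⟩ := exists_smul (he₁ j) (inf_le_right : U i ⊓ U j ≤ U j)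
        (LocGen.res R₁.L (inf_le_left : U i ⊓ U j ≤ U i) (e₁ i))
      obtain ⟨b, hb⟩ := exists_smul (he₂ j) (inf_le_right : U i ⊓ U j ≤ U j)
        (LocGen.res R₂.L (inf_le_left : U i ⊓ U j ≤ U i) (e₂ i))
      obtain ⟨c, hc⟩ := exists_smul (he₃ j) (inf_le_right : U i ⊓ U j ≤ U j)
        (LocGen.res R₃.L (inf_le_left : U i ⊓ U j ≤ U i) (e₃ i))
      have h1 : LocGen.res R'.L (inf_le_left : U i ⊓ U j ≤ U i) (B'.map (e₁ i) (B₂₃.map (e₂ i) (e₃ i))) =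
          (a * b * c) • LocGen.res R'.L (inf_le_right : U i ⊓ U j ≤ U j) (B'.map (e₁ j) (B₂₃.map (e₂ j) (e₃ j))) := by
        rw [kr', ← ha, ← hb, ← hc, key', ← kr']
      refine ⟨a * b * c, ?_, h1⟩
      rw [kr, ← ha, ← hb, ← hc, key, ← kr])
  refine ⟨⟨F, isArr_of_gens _ F hU (e := fun i ↦ B.map (B₁₂.map (e₁ i) (e₂ i)) (e₃ i))
    (fun i ↦ B.gen (B₁₂.gen (he₁ i) (he₂ i)) (he₃ i)) fun i ↦ ?_⟩⟩
  rw [hF]
  have h1 : v R' (B'.map (e₁ i) (B₂₃.map (e₂ i) (e₃ i))) = v R₁ (e₁ i) * (v R₂ (e₂ i) * v R₃ (e₃ i)) := by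
    rw [hB', hB₂₃]
  have h2 : v R (B.map (B₁₂.map (e₁ i) (e₂ i)) (e₃ i)) = v R₁ (e₁ i) * (v R₂ (e₂ i) * v R₃ (e₃ i)) := by
    rw [hB, hB₁₂, mul_assoc]
  refine (ores_refl _).trans ?_
  exact h1.trans h2.symm

/-! ### Division -/

/-- Division: the second factor of a product inherits a rigidification. -/
theorem exists_div (R₁ R₃ : RB σ) {M : Y.Modules} (hM : PicF.IsInvertible M) (B : Pr R₁.L M R₃.L) :
    ∃ ρ : Fam σ M (Coh.structureModule W), IsMul R₁ ⟨M, hM, ρ⟩ R₃ := by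
  obtain ⟨U, e, m, hU, he, hm⟩ := exists_gens₂ R₁.inv hM
  choose c hc using fun i ↦ (isUnit_v R₁ (he i)).exists_left_inv
  have hcu : ∀ i, IsUnit (c i) := fun i ↦ IsUnit.of_mul_eq_one _ (hc i)
  have hBr : ∀ {V V' : Y.Opens} (h : V' ≤ V) (s : Γ(R₁.L, V)) (t : Γ(M, V)),
      v R₃ (B.map (LocGen.res R₁.L h s) (LocGen.res M h t)) = ores (σ.preimage_mono h) (v R₃ (B.map s t)) := by
    intro V V' h s t
    rw [B.res]
    exact v_res R₃ h _
  have hBs : ∀ {V : Y.Opens} (a b : Γ(Y, V)) (s : Γ(R₁.L, V)) (t : Γ(M, V)),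
      v R₃ (B.map (a • s) (b • t)) = σ.app V a * σ.app V b * v R₃ (B.map s t) := by
    intro V a b s t
    rw [B.smul]
    refine (v_smul R₃ (a * b) _).trans ?_
    rw [map_mul]
  obtain ⟨ρ, hρ⟩ := Fam.exists_of_gens (G := σ) (L := M) (L' := Coh.structureModule W) hU hm
    (fun i ↦ ofFun (c i * v R₃ (B.map (e i) (m i))))
    (fun i ↦ isGen_ofFun ((hcu i).mul (isUnit_v R₃ (B.gen (he i) (hm i))))) (fun i j ↦ by
      obtain ⟨a, ha⟩ := exists_smul (he j) (inf_le_right : U i ⊓ U j ≤ U j)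
        (LocGen.res R₁.L (inf_le_left : U i ⊓ U j ≤ U i) (e i))
      obtain ⟨b, hb⟩ := exists_smul (hm j) (inf_le_right : U i ⊓ U j ≤ U j)
        (LocGen.res M (inf_le_left : U i ⊓ U j ≤ U i) (m i))
      refine ⟨b, hb.symm, ?_⟩
      suffices hsuff : ores (σ.preimage_mono (inf_le_left : U i ⊓ U j ≤ U i)) (c i * v R₃ (B.map (e i) (m i))) =
          σ.app _ b * ores (σ.preimage_mono (inf_le_right : U i ⊓ U j ≤ U j)) (c j * v R₃ (B.map (e j) (m j))) from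
        congrArg ofFun hsuff
      have hu : IsUnit (ores (σ.preimage_mono (inf_le_left : U i ⊓ U j ≤ U i)) (v R₁ (e i))) :=
        (isUnit_v R₁ (he i)).map _
      apply hu.mul_left_cancel
      have h1 : ores (σ.preimage_mono (inf_le_left : U i ⊓ U j ≤ U i)) (v R₁ (e i)) *
          ores (σ.preimage_mono (inf_le_left : U i ⊓ U j ≤ U i)) (c i * v R₃ (B.map (e i) (m i))) =
          v R₃ (B.map (LocGen.res R₁.L (inf_le_left : U i ⊓ U j ≤ U i) (e i))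
            (LocGen.res M (inf_le_left : U i ⊓ U j ≤ U i) (m i))) := by
        rw [hBr, ← map_mul, ← mul_assoc, mul_comm (v R₁ (e i)), hc, one_mul]
      have h2 : ores (σ.preimage_mono (inf_le_left : U i ⊓ U j ≤ U i)) (v R₁ (e i)) =
          σ.app _ a * ores (σ.preimage_mono (inf_le_right : U i ⊓ U j ≤ U j)) (v R₁ (e j)) := by
        rw [← v_res R₁ (inf_le_left : U i ⊓ U j ≤ U i), ← ha, v_smul, v_res]
      have h3 : ores (σ.preimage_mono (inf_le_right : U i ⊓ U j ≤ U j)) (v R₁ (e j)) *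
          ores (σ.preimage_mono (inf_le_right : U i ⊓ U j ≤ U j)) (c j * v R₃ (B.map (e j) (m j))) =
          v R₃ (B.map (LocGen.res R₁.L (inf_le_right : U i ⊓ U j ≤ U j) (e j))
            (LocGen.res M (inf_le_right : U i ⊓ U j ≤ U j) (m j))) := by
        rw [hBr, ← map_mul, ← mul_assoc, mul_comm (v R₁ (e j)), hc, one_mul]
      rw [h1, h2, ← ha, ← hb, hBs, ← h3]
      ring)
  refine ⟨ρ, B, fun {V} s t ↦ ?_⟩
  refine ores_ext (fun i ↦ σ ⁻¹ᵁ (V ⊓ U i)) (fun i ↦ σ.preimage_mono inf_le_left) ?_ fun i ↦ ?_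
  · rw [← Scheme.Hom.preimage_iSup]
    exact σ.preimage_mono (cover_inf hU V)
  · obtain ⟨a, ha⟩ := exists_smul (he i) (inf_le_right : V ⊓ U i ≤ U i)
      (LocGen.res R₁.L (inf_le_left : V ⊓ U i ≤ V) s)
    obtain ⟨b, hb⟩ := exists_smul (hm i) (inf_le_right : V ⊓ U i ≤ U i)
      (LocGen.res M (inf_le_left : V ⊓ U i ≤ V) t)
    let R₂ : RB σ := ⟨M, hM, ρ⟩
    have hv : v R₂ (m i) = c i * v R₃ (B.map (e i) (m i)) := by
      change ofFun.symm (ρ.map (m i)) = _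
      rw [hρ]
      exact AddEquiv.symm_apply_apply _ _
    have h0 : ores (σ.preimage_mono (inf_le_left : V ⊓ U i ≤ V)) (v R₃ (B.map s t)) =
        σ.app _ a * σ.app _ b * ores (σ.preimage_mono (inf_le_right : V ⊓ U i ≤ U i)) (v R₃ (B.map (e i) (m i))) := by
      rw [← hBr (inf_le_left : V ⊓ U i ≤ V), ← ha, ← hb, hBs, hBr]
    have h1 : ores (σ.preimage_mono (inf_le_left : V ⊓ U i ≤ V)) (v R₁ s) =
        σ.app _ a * ores (σ.preimage_mono (inf_le_right : V ⊓ U i ≤ U i)) (v R₁ (e i)) := by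
      rw [← v_res R₁ (inf_le_left : V ⊓ U i ≤ V), ← ha, v_smul, v_res]
    have h2 : ores (σ.preimage_mono (inf_le_left : V ⊓ U i ≤ V)) (v R₂ t) =
        σ.app _ b * ores (σ.preimage_mono (inf_le_right : V ⊓ U i ≤ U i)) (c i * v R₃ (B.map (e i) (m i))) := by
      rw [← hv, ← v_res R₂ (inf_le_left : V ⊓ U i ≤ V), ← v_res R₂ (inf_le_right : V ⊓ U i ≤ U i)]
      change v R₂ (LocGen.res M _ t) = _
      rw [← hb]
      exact v_smul R₂ b _
    have h3 : ores (σ.preimage_mono (inf_le_right : V ⊓ U i ≤ U i)) (v R₁ (e i)) *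
        ores (σ.preimage_mono (inf_le_right : V ⊓ U i ≤ U i)) (c i * v R₃ (B.map (e i) (m i))) =
        ores (σ.preimage_mono (inf_le_right : V ⊓ U i ≤ U i)) (v R₃ (B.map (e i) (m i))) := by
      rw [← map_mul, ← mul_assoc, mul_comm (v R₁ (e i)), hc, one_mul]
    refine h0.trans (Eq.trans ?_ (map_mul _ _ _).symm)
    refine Eq.trans ?_ (congrArg₂ (· * ·) h1.symm h2.symm)
    rw [← h3]
    ring

open Groth.Agent.Grpsch Groth.Agent.Grpsch.PicGrp in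
/-- The evaluation pairing with the dual. -/
noncomputable def bilEv (L : Y.Modules) (hL : PicF.IsInvertible L) :
    Pr L (PicGrp.dual L) (Coh.structureModule Y) where
  map {U} s t := (PicGrp.ev L).app U (tmul s t)
  smul {U} a b s t := by
    rw [smul_tmul, tmul_smul, smul_smul, Scheme.Modules.Hom.app_smul]
  res {U V} h s t := by
    rw [← res_tmul]
    exact app_res (PicGrp.ev L) h _
  gen {U e e'} he he' := by
    have := PicGrp.isIso_ev hL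
    exact (he.tmul he').app (PicGrp.ev L)

/-- Inverses. -/
theorem exists_inv (R : RB σ) : ∃ R' : RB σ, IsMul R R' (unitRB σ 1) := by
  obtain ⟨ρ, hρ⟩ := exists_div R (unitRB σ 1) (Groth.Agent.Grpsch.PicGrp.isInvertible_dual R.inv)
    (bilEv R.L R.inv)
  exact ⟨_, hρ⟩

end Groth.Agent.Pic13.H557.RigMul
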